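import Groth.Agent.H23SB.Split
import Groth.Agent.H23KS.Indec
import Mathlib

/-!
# The rank of the tautological sheaf
-/

set_option autoImplicit false
set_option linter.style.haveILetI false
set_option linter.unusedSectionVars false

universe u

open CategoryTheory CategoryTheory.Limits AlgebraicGeometry Opposite TopologicalSpace
open scoped TensorProduct

noncomputable section

namespace Groth.Agent.H23SB

open Groth.Agent Groth.Agent.H02CA.SB Groth.Agent.H8Props.FunDescent

attribute [local instance] alg Abelian.hasFiniteBiproducts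

theorem stalkLin_add {Y : Scheme.{u}} {M N : Y.Modules} (φ ψ : M ⟶ N) (y : Y) :
    H06Mod.stalkLin (φ + ψ) y = H06Mod.stalkLin φ y + H06Mod.stalkLin ψ y := by
  refine LinearMap.ext fun v => ?_
  obtain ⟨U, hU, a, rfl⟩ := TopCat.Presheaf.exists_germ_eq M.presheaf v
  rw [LinearMap.add_apply, H06Mod.stalkLin_germ, H06Mod.stalkLin_germ, H06Mod.stalkLin_germ]
  exact map_add (N.presheaf.germ U y hU).hom (φ.app U a) (ψ.app U a)

theorem stalkLin_zero {Y : Scheme.{u}} (M N : Y.Modules) (y : Y) :
    H06Mod.stalkLin (0 : M ⟶ N) y = 0 := by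
  have h := stalkLin_add (0 : M ⟶ N) 0 y
  rw [add_zero] at h
  exact left_eq_add.1 h

theorem stalkLin_finset_sum {Y : Scheme.{u}} {M N : Y.Modules} {ι : Type} (s : Finset ι) (φ : ι → (M ⟶ N)) (y : Y) :
    H06Mod.stalkLin (∑ i ∈ s, φ i) y = ∑ i ∈ s, H06Mod.stalkLin (φ i) y :=
  map_sum ({ toFun := fun ψ => H06Mod.stalkLin ψ y, map_zero' := stalkLin_zero M N y,
             map_add' := fun a b => stalkLin_add a b y } : (M ⟶ N) →+ _) φ s

theorem stalkLin_comp'' {Y : Scheme.{u}} {L M N : Y.Modules} (φ : L ⟶ M) (ψ : M ⟶ N) (y : Y)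
    (v : L.presheaf.stalk y) :
    H06Mod.stalkLin (φ ≫ ψ) y v = H06Mod.stalkLin ψ y (H06Mod.stalkLin φ y v) := by
  obtain ⟨U, hU, a, rfl⟩ := TopCat.Presheaf.exists_germ_eq L.presheaf v
  rw [H06Mod.stalkLin_germ, H06Mod.stalkLin_germ, H06Mod.stalkLin_germ]
  rfl

/-- The stalk of a finite sum is the product of the stalks. -/
def stalkPiEquiv {Y : Scheme.{u}} (P : Y.Modules) {M : Y.Modules} {n : ℕ} (g : M ≅ ∐ fun _ : Fin n => P) (y : Y) :
    M.presheaf.stalk y ≃ₗ[Y.presheaf.stalk y] (Fin n → P.presheaf.stalk y) :=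
  let φ := g ≪≫ (biproduct.isoCoproduct fun _ : Fin n => P).symm
  { toFun := fun v i => H06Mod.stalkLin (φ.hom ≫ biproduct.π _ i) y v
    map_add' := fun v w => funext fun i => map_add _ v w
    map_smul' := fun r v => funext fun i => map_smul _ r v
    invFun := fun w => ∑ i, H06Mod.stalkLin (biproduct.ι (fun _ : Fin n => P) i ≫ φ.inv) y (w i)
    left_inv := fun v => by
      show ∑ i, H06Mod.stalkLin _ y (H06Mod.stalkLin _ y v) = v
      simp only [← stalkLin_comp'']
      rw [← LinearMap.sum_apply, ← stalkLin_finset_sum]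
      have : ∑ i, (φ.hom ≫ biproduct.π (fun _ : Fin n => P) i) ≫ biproduct.ι (fun _ : Fin n => P) i ≫ φ.inv = 𝟙 M := by
        simp only [Category.assoc]
        rw [← Preadditive.comp_sum]
        simp only [← Category.assoc (biproduct.π _ _)]
        rw [← Preadditive.sum_comp, biproduct.total, Category.id_comp, φ.hom_inv_id]
      rw [this]
      exact H23KS.stalkLin_id M y v
    right_inv := fun w => funext fun j => by
      show H06Mod.stalkLin _ y (∑ i, H06Mod.stalkLin _ y (w i)) = w j
      rw [map_sum]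
      simp only [← stalkLin_comp'']
      rw [Finset.sum_eq_single j]
      · rw [Category.assoc, Iso.inv_hom_id_assoc, biproduct.ι_π_self]
        exact H23KS.stalkLin_id P y (w j)
      · intro i _ hij
        rw [Category.assoc, Iso.inv_hom_id_assoc, biproduct.ι_π_ne _ hij, stalkLin_zero]
        rfl
      · simp }

variable {k : Type u} [Field k] {A : Type u} [Ring A] [Algebra k A] [Module.Finite k A] {n : ℕ} [NeZero n]
  {X : Scheme.{u}} [X.Over (Spec (CommRingCat.of k))] {m : ℕ} (b : Module.Basis (Fin m) k A)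
  (str : BrSev.SBStr k A (n * n - n) (X ↘ Spec (CommRingCat.of k)))

include b in
/-- The tautological sheaf has rank `n`. -/
theorem stalkFree_V (hA : Module.finrank k A = n * n) (x : X) : StalkFree (V b str) n x := by
  obtain ⟨U, hU, hxU, -⟩ := exists_isAffineOpen_mem_and_subset (U := (⊤ : X.Opens)) (x := x) trivial
  let R := Γ(X, U)
  let N := (str.bij R (pt k hU)).1
  let x' : U := ⟨x, hxU⟩
  haveI := N.projective_quotient
  haveI := N.finite_quotient
  obtain ⟨-, hproj⟩ := H8Props.FinLocFree.finite_projective_sections (V b str) (isFinLocFree_V b str) hU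
  haveI : Module.Projective R (ideal str hU) := Module.Projective.of_equiv (secEquiv b str hU)
  haveI := finite_ideal b str hU
  haveI : Nontrivial R := by
    haveI : Nonempty U := ⟨x'⟩
    infer_instance
  obtain ⟨s, hs⟩ := Module.projective_lifting_property N.toSubmodule.mkQ LinearMap.id (Submodule.mkQ_surjective _)
  have hs' : ∀ z, N.toSubmodule.mkQ (s z) = z := fun z => LinearMap.congr_fun hs z
  let r : R ⊗[k] A →ₗ[R] ideal str hU :=
    (LinearMap.id - s.comp N.toSubmodule.mkQ).codRestrict N.toSubmodule fun z => by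
      rw [← Submodule.Quotient.mk_eq_zero]
      simpa using (sub_eq_zero.2 (hs' (N.toSubmodule.mkQ z)).symm)
  let E : R ⊗[k] A ≃ₗ[R] ideal str hU × ((R ⊗[k] A) ⧸ N.toSubmodule) :=
    { toFun := fun z => (r z, N.toSubmodule.mkQ z)
      map_add' := fun a b => Prod.ext (map_add r a b) (map_add N.toSubmodule.mkQ a b)
      map_smul' := fun c a => Prod.ext (map_smul r c a) (map_smul N.toSubmodule.mkQ c a)
      invFun := fun z => z.1.1 + s z.2
      left_inv := fun z => by
        show z - s (N.toSubmodule.mkQ z) + s (N.toSubmodule.mkQ z) = z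
        rw [sub_add_cancel]
      right_inv := fun z => by
        have h1 : N.toSubmodule.mkQ (z.1.1 + s z.2) = z.2 := by
          rw [map_add, hs', show N.toSubmodule.mkQ z.1.1 = 0 from (Submodule.Quotient.mk_eq_zero _).2 z.1.2, zero_add]
        refine Prod.ext (Subtype.ext ?_) h1
        show z.1.1 + s z.2 - s (N.toSubmodule.mkQ (z.1.1 + s z.2)) = z.1.1
        rw [h1, add_sub_cancel_right] }
  let 𝔭 : PrimeSpectrum R := hU.primeIdealOf x'
  haveI : Module.Free R (R ⊗[k] A) := Module.Free.of_basis (Algebra.TensorProduct.basis R b)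
  haveI : Module.Finite R (R ⊗[k] A) := Module.Finite.of_basis (Algebra.TensorProduct.basis R b)
  have hrank : Module.rankAtStalk (R := R) (ideal str hU) 𝔭 = n := by
    have h1 := congrFun (Module.rankAtStalk_eq_of_equiv E) 𝔭
    rw [Module.rankAtStalk_eq_finrank_of_free, Module.rankAtStalk_prod, Pi.add_apply, N.rankAtStalk_eq 𝔭,
      Pi.natCast_apply, Nat.cast_id, Module.finrank_baseChange, hA] at h1
    have : n ≤ n * n := Nat.le_mul_self n
    omega
  have hrank' : Module.rankAtStalk (R := R) Γ(V b str, U) 𝔭 = n := by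
    rw [Module.rankAtStalk_eq_of_equiv (secEquiv b str hU)]
    exact hrank
  haveI : Module.Finite R Γ(V b str, U) := Module.Finite.equiv (secEquiv b str hU).symm
  letI := TopCat.Presheaf.algebra_section_stalk X.presheaf x'
  letI := Module.compHom ((V b str).presheaf.stalk x) (algebraMap R (X.presheaf.stalk x))
  haveI : IsScalarTower R (X.presheaf.stalk x) ((V b str).presheaf.stalk x) := .of_algebraMap_smul fun _ _ => rfl
  haveI : IsLocalization.AtPrime (X.presheaf.stalk x) 𝔭.asIdeal := hU.isLocalization_stalk x'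
  haveI hloc : IsLocalizedModule 𝔭.asIdeal.primeCompl (H29Fitt.germLin (V b str) x') :=
    H29Fitt.isLocalizedModule_germLin (V b str) (isQCoh_V b str) hU x'
  obtain ⟨V₀, r₀, hxV₀, he⟩ := isFinLocFree_V b str x
  have hr₀ : StalkFree (V b str) r₀ x := stalkFree_of_isFreeOfRankNear _ (isQCoh_V b str) ⟨V₀, hxV₀, he⟩
  obtain ⟨B⟩ := id hr₀
  haveI : Module.Free (X.presheaf.stalk x) ((V b str).presheaf.stalk x) := Module.Free.of_basis B
  have hbc := Module.rankAtStalk_isBaseChange (f := H29Fitt.germLin (V b str) x')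
    (IsLocalizedModule.isBaseChange 𝔭.asIdeal.primeCompl (X.presheaf.stalk x) (H29Fitt.germLin (V b str) x'))
    (IsLocalRing.closedPoint (X.presheaf.stalk x))
  rw [Module.rankAtStalk_eq_finrank_of_free] at hbc
  have hp : PrimeSpectrum.comap (algebraMap R (X.presheaf.stalk x)) (IsLocalRing.closedPoint _) = 𝔭 :=
    PrimeSpectrum.ext (IsLocalization.AtPrime.under_maximalIdeal (X.presheaf.stalk x) 𝔭.asIdeal)
  rw [hp, hrank'] at hbc
  have h2 : r₀ = n := by
    rw [← hbc, Pi.natCast_apply, Nat.cast_id, Module.finrank_eq_card_basis B, Fintype.card_fin]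
  exact h2 ▸ hr₀

variable {K : Type u} [Field K] [Algebra k K] {X' : Scheme.{u}} [X'.Over (Spec (CommRingCat.of K))] {q : X' ⟶ X}

include b in
/-- The corner is invertible. -/
theorem isInvertible_corner [IsLocallyNoetherian X'] (hA : Module.finrank k A = n * n) {P : X'.Modules}
    (ι : P ⟶ (Scheme.Modules.pullback q).obj (V b str)) (p : (Scheme.Modules.pullback q).obj (V b str) ⟶ P)
    (hιp : ι ≫ p = 𝟙 P) (g : (Scheme.Modules.pullback q).obj (V b str) ≅ ∐ fun _ : Fin n => P) :
    PicF.IsInvertible P := by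
  intro y
  have hP : FlatMod.IsFinLocFree P := H23KS.isFinLocFree_of_retract
    (H16Derived.KFlat.Stalk.isFinLocFree_pullback q (isFinLocFree_V b str)) ι p hιp
  obtain ⟨U, r, hyU, he⟩ := hP y
  have hr : StalkFree P r y := stalkFree_of_isFreeOfRankNear _ (H8Props.FinLocFree.isQCoh_of_isFinLocFree _ hP)
    ⟨U, hyU, he⟩
  obtain ⟨B⟩ := id hr
  have h1 : StalkFree ((Scheme.Modules.pullback q).obj (V b str)) n y :=
    stalkFree_pullback q _ (stalkFree_V b str hA (q y))
  obtain ⟨B'⟩ := h1
  let B'' := (Pi.basis fun _ : Fin n => B).map (stalkPiEquiv P g y).symm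
  have hn := Module.finrank_eq_card_basis B'
  rw [Module.finrank_eq_card_basis B'', Fintype.card_sigma, Finset.sum_const, Fintype.card_fin,
    Finset.card_univ, Fintype.card_fin, smul_eq_mul] at hn
  have hr1 : r = 1 := Nat.eq_of_mul_eq_mul_left (NeZero.pos n) (hn.trans (mul_one n).symm)
  subst hr1
  exact H29Ref.exists_iso_of_isFreeOfRankNear_one P y ⟨U, hyU, he⟩

end Groth.Agent.H23SB
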