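import Groth.Agent.H23Brauer.Period
import Mathlib

/-!
# Indices of tensor powers
-/

set_option autoImplicit false
set_option linter.unusedSectionVars false

universe u v

open scoped TensorProduct

noncomputable section

namespace Groth.Agent.H23SB

open Groth.Agent.H23Brauer

variable {k : Type u} [Field k] {A : Type v} [Ring A] [Algebra k A] [Algebra.IsCentral k A] [IsSimpleRing A]
  [FiniteDimensional k A]

theorem index_tpow_mul_dvd {a b d d' : ℕ} (h : CSAGal.IsIndex k (CSAGal.tpow k A a) d)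
    (h' : CSAGal.IsIndex k (CSAGal.tpow k A (b * a)) d') : d' ∣ d := by
  obtain ⟨_, _, _⟩ := csa_tpow (k := k) A a
  obtain ⟨_, _, _⟩ := csa_tpow (k := k) (CSAGal.tpow k A a) b
  obtain ⟨_, _, _⟩ := csa_tpow (k := k) A (b * a)
  obtain ⟨E⟩ := nonempty_tpow_tpow (k := k) (A := A) a b
  exact index_tpow_dvd h (isIndex_congr_equiv E.symm
    h')

theorem isIndex_tpow_add {a b d : ℕ} (ha : Curves.Splits k (CSAGal.tpow k A a) k)
    (h : CSAGal.IsIndex k (CSAGal.tpow k A b) d) : CSAGal.IsIndex k (CSAGal.tpow k A (a + b)) d := by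
  obtain ⟨_, _, _⟩ := csa_tpow (k := k) A b
  obtain ⟨_, _, _⟩ := csa_tpow (k := k) A (a + b)
  obtain ⟨N, hN, ⟨e⟩⟩ := ha
  haveI : NeZero N := ⟨hN⟩
  obtain ⟨E⟩ := nonempty_tpow_add (k := k) A a b
  let F : CSAGal.tpow k A (a + b) ≃ₐ[k] Matrix (Fin N) (Fin N) (CSAGal.tpow k A b) :=
    E.trans ((Algebra.TensorProduct.congr ((Algebra.TensorProduct.lid k _).symm.trans e) AlgEquiv.refl).trans
      ((Algebra.TensorProduct.comm k _ _).trans (matrixEquivTensor (Fin N) k (CSAGal.tpow k A b)).symm))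
  exact isIndex_congr hN one_ne_zero (F.symm.trans ((Matrix.reindexAlgEquiv k _ finOneEquiv).trans
    (Matrix.uniqueAlgEquiv (m := Unit) (A := CSAGal.tpow k A (a + b)) (R := k))).symm) h

/-- The index of a tensor power depends on the gcd with the period only. -/
theorem index_tpow_eq_gcd {p : ℕ} (hp : CSAGal.IsPeriod k A p) {i d d' : ℕ}
    (h : CSAGal.IsIndex k (CSAGal.tpow k A i) d)
    (h' : CSAGal.IsIndex k (CSAGal.tpow k A (Nat.gcd p i)) d') : d = d' := by
  set g := Nat.gcd p i with hg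
  obtain ⟨_, _, _⟩ := csa_tpow (k := k) A i
  have h1 : d ∣ d' := by
    obtain ⟨c, hc⟩ : g ∣ i := Nat.gcd_dvd_right p i
    exact index_tpow_mul_dvd (b := c) h' (by rwa [mul_comm, ← hc])
  have hd : d' ∣ d := by
    rcases eq_or_ne i 0 with hi0' | hi0
    · subst hi0'
      have hgp : g = p := hg.trans (Nat.gcd_zero_right p)
      have h0 : CSAGal.IsIndex k (CSAGal.tpow k A 0) 1 := by
        obtain ⟨_, _, _⟩ := csa_tpow (k := k) A 0
        exact splits_iff_isIndex_one.mp splits_zero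
      obtain ⟨_, _, _⟩ := csa_tpow (k := k) A g
      have h1' : CSAGal.IsIndex k (CSAGal.tpow k A g) 1 := splits_iff_isIndex_one.mp (hgp ▸ hp.2.1)
      obtain ⟨_, _, _⟩ := csa_tpow (k := k) A g
      rw [isIndex_unique h' h1']
      exact one_dvd _
    obtain ⟨u, q, hu⟩ : ∃ u q : ℕ, u * i = p * q + g := by
      have hbz : (g : ℤ) = p * Nat.gcdA p i + i * Nat.gcdB p i := by
        rw [hg]; exact_mod_cast Nat.gcd_eq_gcd_ab p i
      let t : ℕ := (Nat.gcdB p i).natAbs + (Nat.gcdA p i).natAbs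
      have hu : 0 ≤ Nat.gcdB p i + (p : ℤ) * t := by
        have h1 : (Nat.gcdB p i).natAbs ≤ t := Nat.le_add_right _ _
        have h2 : (t : ℤ) ≤ (p : ℤ) * t :=
          le_mul_of_one_le_left (Int.natCast_nonneg t) (by exact_mod_cast hp.1)
        have h3 : -Nat.gcdB p i ≤ ((Nat.gcdB p i).natAbs : ℤ) := by omega
        have h4 : ((Nat.gcdB p i).natAbs : ℤ) ≤ t := by exact_mod_cast h1
        omega
      rcases Nat.eq_zero_or_pos i with rfl | hi
      · refine ⟨0, 0, ?_⟩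
        exfalso
        exact hi0 rfl
      have hq : 0 ≤ (i : ℤ) * t - Nat.gcdA p i := by
        have h1 : (Nat.gcdA p i).natAbs ≤ t := Nat.le_add_left _ _
        have h2 : (t : ℤ) ≤ (i : ℤ) * t := le_mul_of_one_le_left (Int.natCast_nonneg t) (by exact_mod_cast hi)
        have h4 : ((Nat.gcdA p i).natAbs : ℤ) ≤ t := by exact_mod_cast h1
        omega
      refine ⟨(Nat.gcdB p i + (p : ℤ) * t).toNat, ((i : ℤ) * t - Nat.gcdA p i).toNat, ?_⟩
      zify
      rw [Int.toNat_of_nonneg hu, Int.toNat_of_nonneg hq, hbz]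
      ring
    have h2 := isIndex_tpow_add (splits_mul hp.2.1 q) h'
    rw [← hu] at h2
    exact index_tpow_mul_dvd h h2
  exact Nat.dvd_antisymm h1 hd

theorem period_dvd_index {p d : ℕ} (hp : CSAGal.IsPeriod k A p) (hd : CSAGal.IsIndex k A d) : p ∣ d :=
  (splits_iff_dvd hp d).mp (splits_tpow_index hd)

theorem dvd_div_of_dvd_choose {m q x : ℕ} (hq : q.Prime) (hm : q ∣ m) (hx : x ∣ m) (hc : x ∣ m.choose q) :
    x ∣ m / q := by
  obtain ⟨t, rfl⟩ := hm
  rw [Nat.mul_div_cancel_left t hq.pos]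
  rcases Nat.eq_zero_or_pos t with rfl | ht
  · exact dvd_zero x
  obtain ⟨s, hs⟩ : ∃ s, q * t = s + 1 := ⟨q * t - 1, by have := Nat.mul_pos hq.pos ht; omega⟩
  obtain ⟨r, hr⟩ : ∃ r, q = r + 1 := ⟨q - 1, by have := hq.pos; omega⟩
  have hmul := Nat.add_one_mul_choose_eq s r
  rw [← hs, ← hr] at hmul
  have hchoose : (q * t).choose q = t * s.choose r := by
    refine Nat.eq_of_mul_eq_mul_left hq.pos ?_
    rw [← mul_assoc, hmul, mul_comm]
  haveI := Fact.mk hq
  have hne : ¬ q ∣ s.choose r := by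
    have hsm : s % q = r := by
      obtain ⟨t', rfl⟩ : ∃ t', t = t' + 1 := ⟨t - 1, by omega⟩
      have : s = q * t' + r := by rw [mul_add, mul_one] at hs; omega
      rw [this, Nat.mul_add_mod, Nat.mod_eq_of_lt (by omega)]
    have h := Choose.choose_modEq_choose_mod_mul_choose_div_nat (n := s) (k := r) (p := q)
    rw [hsm, Nat.mod_eq_of_lt (show r < q by omega), Nat.choose_self, one_mul,
      Nat.div_eq_of_lt (show r < q by omega), Nat.choose_zero_right] at h
    intro hd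
    exact hq.not_dvd_one ((Nat.modEq_zero_iff_dvd).mp (h.symm.trans (Nat.modEq_zero_iff_dvd.mpr hd)))
  rw [hchoose] at hc
  have h2 := Nat.dvd_gcd hx hc
  rwa [mul_comm q t, Nat.gcd_mul_left, (Nat.Coprime.gcd_eq_one ((Nat.Prime.coprime_iff_not_dvd hq).mpr hne)),
    mul_one] at h2

/-- If the period equals the index, tensor powers have index `p / gcd (p, i)`. -/
theorem index_tpow_of_period_eq_index {p : ℕ} (hp : CSAGal.IsPeriod k A p) (hi : CSAGal.IsIndex k A p) (i d : ℕ)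
    (h : CSAGal.IsIndex k (CSAGal.tpow k A i) d) : d = p / Nat.gcd p i := by
  suffices key : ∀ g, g ∣ p → CSAGal.IsIndex k (CSAGal.tpow k A g) (p / g) from
    index_tpow_eq_gcd hp h (key _ (Nat.gcd_dvd_left p i))
  intro g
  induction g using Nat.strong_induction_on with
  | _ g ih =>
    intro hg
    have hg0 : g ≠ 0 := fun h0 => hp.1.ne' (zero_dvd_iff.mp (h0 ▸ hg))
    rcases eq_or_ne g 1 with rfl | hg1
    · obtain ⟨e⟩ := nonempty_tpow_one (k := k) (A := A)
      rw [Nat.div_one]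
      exact isIndex_congr_equiv e hi
    obtain ⟨q, hq, g', rfl⟩ := Nat.exists_prime_and_dvd hg1
    have hg'pos : 0 < g' := Nat.pos_of_ne_zero fun h0 => hg0 (by rw [h0, mul_zero])
    have hg'p : g' ∣ p := (dvd_mul_left g' q).trans hg
    have hB := ih g' (lt_mul_of_one_lt_left hg'pos hq.one_lt) hg'p
    obtain ⟨_, _, _⟩ := csa_tpow (k := k) A g'
    obtain ⟨_, _, _⟩ := csa_tpow (k := k) A (q * g')
    obtain ⟨_, _, _⟩ := csa_tpow (k := k) (CSAGal.tpow k A g') q
    obtain ⟨x, hx⟩ := exists_isIndex (k := k) (CSAGal.tpow k (CSAGal.tpow k A g') q)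
    obtain ⟨E⟩ := nonempty_tpow_tpow (k := k) (A := A) g' q
    have hqB : q ∣ p / g' := Nat.dvd_div_of_mul_dvd (by rwa [mul_comm])
    have h1 : x ∣ p / g' / q :=
      dvd_div_of_dvd_choose hq hqB (index_tpow_dvd hB hx) (index_tpow_dvd_choose hB hx)
    have hperB : CSAGal.IsPeriod k (CSAGal.tpow k A g') (p / g') := by
      have := isPeriod_tpow hp g'
      rwa [Nat.gcd_eq_right hg'p] at this
    have h2 := period_dvd_index (isPeriod_tpow hperB q) hx
    rw [Nat.gcd_eq_right hqB] at h2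
    obtain rfl := Nat.dvd_antisymm h1 h2
    rw [mul_comm q g', ← Nat.div_div_eq_div_mul, mul_comm g' q]
    exact isIndex_congr_equiv E hx

/-- Powers of Brauer equivalent algebras are Brauer equivalent. -/
theorem index_tpow_dvd_of_matrix {B : Type v} [Ring B] [Algebra k B] [Algebra.IsCentral k B] [IsSimpleRing B]
    [FiniteDimensional k B] {i j m₁ m₂ d d' : ℕ} (hm₁ : 0 < m₁) (hm₂ : 0 < m₂)
    (e : Matrix (Fin m₁) (Fin m₁) (CSAGal.tpow k A i) ≃ₐ[k] Matrix (Fin m₂) (Fin m₂) B)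
    (h : CSAGal.IsIndex k (CSAGal.tpow k A j) d) (h' : CSAGal.IsIndex k (CSAGal.tpow k B j) d') : d' ∣ d := by
  haveI : NeZero m₁ := ⟨hm₁.ne'⟩
  haveI : NeZero m₂ := ⟨hm₂.ne'⟩
  obtain ⟨_, _, _⟩ := csa_tpow (k := k) A i
  obtain ⟨_, _, _⟩ := matrix_csa (k := k) (CSAGal.tpow k A i) m₁ hm₁.ne'
  obtain ⟨_, _, _⟩ := csa_tpow (k := k) (CSAGal.tpow k A i) j
  obtain ⟨_, _, _⟩ := csa_tpow (k := k) B j
  obtain ⟨_, _, _⟩ := csa_tpow (k := k) A j
  obtain ⟨_, _, _⟩ := csa_tpow (k := k) A (j * i)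
  obtain ⟨c, hc⟩ := exists_isIndex (k := k) (CSAGal.tpow k A (j * i))
  obtain ⟨E⟩ := nonempty_tpow_tpow (k := k) (A := A) i j
  obtain ⟨E1⟩ := nonempty_tpow_matrix (k := k) (CSAGal.tpow k A i) m₁ j
  obtain ⟨E2⟩ := nonempty_tpow_congr e j
  obtain ⟨E3⟩ := nonempty_tpow_matrix (k := k) B m₂ j
  have hB : CSAGal.IsIndex k (CSAGal.tpow k B j) c :=
    isIndex_congr (pow_ne_zero j hm₁.ne') (pow_ne_zero j hm₂.ne')
      (E.symm.mapMatrix.trans (E1.symm.trans (E2.trans E3))) hc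
  rw [isIndex_unique h' hB]
  exact index_tpow_mul_dvd (b := i) h (by rwa [mul_comm])

end Groth.Agent.H23SB
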