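import Groth.Agent.H23SB.Index
import Groth.Agent.H23SB.IndexArith
import Groth.Agent.H23KS.SplitDecomp
import Mathlib

/-!
# Multiplicities of indecomposable modules of twisting type
-/

set_option autoImplicit false
set_option linter.style.haveILetI false
set_option linter.unusedSectionVars false

universe u

open CategoryTheory CategoryTheory.Limits AlgebraicGeometry Opposite TopologicalSpace

noncomputable section

namespace Groth.Agent.H23SB

open Groth.Agent Groth.Agent.H23Brauer Groth.Agent.H8Props.FunDescent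

attribute [local instance] Abelian.hasFiniteBiproducts

variable {k : Type u} [Field k] {K : Type u} [Field K] [Algebra k K] {X : Scheme.{u}}
  {f : X ⟶ Spec (CommRingCat.of k)} {N : ℕ} (e : BrSev.Splitting f K N)

instance surjective_proj : Surjective (BrSev.proj f K) := by
  haveI : Surjective (Spec.map (CommRingCat.ofHom (algebraMap k K))) :=
    ⟨fun x => ⟨(⟨⊥, Ideal.isPrime_bot⟩ : PrimeSpectrum K),
      @Subsingleton.elim _ (inferInstanceAs (Subsingleton (PrimeSpectrum k))) _ x⟩⟩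
  exact MorphismProperty.pullback_fst _ _ inferInstance

/-- A module of type `(j, 1)` is invertible. -/
theorem isInvertible_of_isTwPow_one {W : X.Modules} (hW : FlatMod.IsFinLocFree W) {j : ℤ}
    (h : BrSev.IsTwPow e j 1 W) : PicF.IsInvertible W := by
  obtain ⟨a⟩ := h
  intro x
  obtain ⟨y, hy⟩ := (BrSev.proj f K).surjective x
  obtain ⟨U, r, hxU, he⟩ := hW x
  have hr : StalkFree W r x :=
    stalkFree_of_isFreeOfRankNear _ (H8Props.FinLocFree.isQCoh_of_isFinLocFree _ hW) ⟨U, hxU, he⟩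
  have h1 : StalkFree (BrSev.bcMod f K W) r y := stalkFree_pullback _ _ (by rw [hy]; exact hr)
  have hinv := H23KS.Twist.isInvertible_twist e j
  obtain ⟨U', hyU', ⟨e'⟩⟩ := hinv y
  have h2 : StalkFree (e.twist j) 1 y :=
    stalkFree_of_isFreeOfRankNear _ (H8Props.FinLocFree.isQCoh_of_isFinLocFree _
      (H23Para.isFinLocFree_of_isInvertible hinv))
      ⟨U', hyU', ⟨e' ≪≫ (coproductUniqueIso fun _ : Fin 1 => Coh.structureModule (U' : Scheme.{u})).symm⟩⟩
  have h3 : StalkFree (BrSev.bcMod f K W) 1 y :=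
    stalkFree_iso ((a ≪≫ coproductUniqueIso fun _ : Fin 1 => e.twist j).symm) h2
  obtain rfl := stalkFree_unique h1 h3
  exact H29Ref.exists_iso_of_isFreeOfRankNear_one W x ⟨U, hxU, he⟩

variable [IsProper f] [IsAlgClosure k K] {A : Type u} [Ring A] [Algebra k A] [Algebra.IsCentral k A] [IsSimpleRing A]
  (hA : Module.finrank k A = (N + 1) * (N + 1)) (hX : BrSev.IsSBOf k A ((N + 1) * (N + 1) - (N + 1)) f)

include hA in
theorem finiteDimensional_of_finrank : FiniteDimensional k A :=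
  FiniteDimensional.of_finrank_pos (by rw [hA]; positivity)

include hA hX in
theorem invertible_of_period_dvd {p : ℕ} (hp : CSAGal.IsPeriod k A p) {W : X.Modules} (hW : FlatMod.IsFinLocFree W)
    (hWi : H23KS.Indec W) {j : ℤ} (hj : (p : ℤ) ∣ j) {r : ℕ} (hr : 0 < r) (hWt : BrSev.IsTwPow e j r W) :
    PicF.IsInvertible W ∧ r = 1 := by
  haveI := finiteDimensional_of_finrank hA
  obtain ⟨_, _, _⟩ := csa_tpow (k := k) A j.natAbs
  have h := isIndex_multiplicity e hA hX hW hWi hr hWt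
  obtain rfl : r = 1 :=
    isIndex_unique h (splits_iff_isIndex_one.mp ((splits_iff_dvd hp _).mpr (Int.natCast_dvd.mp hj)))
  exact ⟨isInvertible_of_isTwPow_one e hW hWt, rfl⟩

include hA hX in
theorem multiplicity_periodic {p : ℕ} (hp : CSAGal.IsPeriod k A p) {W W' : X.Modules} (hW : FlatMod.IsFinLocFree W)
    (hW' : FlatMod.IsFinLocFree W') (hWi : H23KS.Indec W) (hW'i : H23KS.Indec W') {j a : ℤ} {r r' : ℕ} (hr : 0 < r)
    (hr' : 0 < r') (hWt : BrSev.IsTwPow e j r W) (hW't : BrSev.IsTwPow e (j + a * (p : ℤ)) r' W') : r = r' := by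
  haveI := finiteDimensional_of_finrank hA
  obtain ⟨_, _, _⟩ := csa_tpow (k := k) A (Nat.gcd p j.natAbs)
  obtain ⟨g, hg⟩ := exists_isIndex (k := k) (CSAGal.tpow k A (Nat.gcd p j.natAbs))
  have hgcd : Nat.gcd p (j + a * (p : ℤ)).natAbs = Nat.gcd p j.natAbs := by
    show Int.gcd (p : ℤ) (j + a * (p : ℤ)) = Int.gcd (p : ℤ) j
    rw [mul_comm, Int.gcd_add_mul_left_right]
  rw [index_tpow_eq_gcd hp (isIndex_multiplicity e hA hX hW hWi hr hWt) hg,
    index_tpow_eq_gcd hp (isIndex_multiplicity e hA hX hW' hW'i hr' hW't) (hgcd.symm ▸ hg)]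

include hA hX in
theorem multiplicity_of_period_eq_index {p : ℕ} (hp : CSAGal.IsPeriod k A p) (hi : CSAGal.IsIndex k A p)
    {W : X.Modules} (hW : FlatMod.IsFinLocFree W) (hWi : H23KS.Indec W) {j : ℤ} {r : ℕ} (hr : 0 < r)
    (hWt : BrSev.IsTwPow e j r W) : r = p / Nat.gcd p j.natAbs := by
  haveI := finiteDimensional_of_finrank hA
  exact index_tpow_of_period_eq_index hp hi _ _ (isIndex_multiplicity e hA hX hW hWi hr hWt)

theorem period_eq_index_of_prime [FiniteDimensional k A] {d : ℕ} (hd : CSAGal.IsIndex k A d) (hq : d.Prime) :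
    CSAGal.IsPeriod k A d := by
  obtain ⟨p, hp⟩ := exists_isPeriod (k := k) (A := A)
  rcases (Nat.dvd_prime hq).mp (period_dvd_index hp hd) with rfl | rfl
  · exact absurd (isIndex_unique hd (splits_iff_isIndex_one.mp (splits_one_iff.mp hp.2.1))) hq.ne_one
  · exact hp

include hA hX in
theorem decomposition_of_index_two (hi : CSAGal.IsIndex k A 2) {E : X.Modules} (hE : FlatMod.IsFinLocFree E)
    {s₀ : ℕ} (Ns : Fin s₀ → (BrSev.bc f K).Modules) (hNs : ∀ i, PicF.IsInvertible (Ns i))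
    (hsplit : BrSev.bcMod f K E ≅ ∐ Ns) :
    ∃ (s t : ℕ) (Ls : Fin s → X.Modules) (Ms : Fin t → X.Modules) (a : Fin s → ℤ) (b : Fin t → ℤ),
      (∀ i, PicF.IsInvertible (Ls i) ∧ BrSev.IsTwPow e (2 * a i) 1 (Ls i)) ∧
      (∀ i, FlatMod.IsFinLocFree (Ms i) ∧
        (¬ IsZero (Ms i) ∧ ∀ M₁ M₂ : X.Modules, Nonempty ((Ms i) ≅ M₁ ⊞ M₂) → IsZero M₁ ∨ IsZero M₂) ∧
        BrSev.IsTwPow e (2 * b i + 1) 2 (Ms i)) ∧
      Nonempty (E ≅ (∐ Ls) ⊞ (∐ Ms)) := by
  classical
  haveI := finiteDimensional_of_finrank hA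
  haveI : IsAlgClosed K := IsAlgClosure.isAlgClosed k
  have hp := period_eq_index_of_prime hi Nat.prime_two
  obtain ⟨T, Fs, js, rs, hFs, ⟨g⟩⟩ := H23KS.Exists.exists_decomp e hE Ns hNs hsplit
  let even := Fintype.equivFin {i : Fin T // Even (js i)}
  let odd := Fintype.equivFin {i : Fin T // ¬ Even (js i)}
  refine ⟨_, _, fun i => Fs (even.symm i).1, fun i => Fs (odd.symm i).1, fun i => js (even.symm i).1 / 2,
    fun i => js (odd.symm i).1 / 2, fun i => ?_, fun i => ?_, ⟨?_⟩⟩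
  · obtain ⟨hf, hind, hr, ht⟩ := hFs (even.symm i).1
    obtain ⟨hinv, h1⟩ := invertible_of_period_dvd e hA hX hp hf hind (j := js (even.symm i).1)
      (even_iff_two_dvd.mp (even.symm i).2) hr ht
    rw [Int.two_mul_ediv_two_of_even (even.symm i).2]
    exact ⟨hinv, h1 ▸ ht⟩
  · obtain ⟨hf, hind, hr, ht⟩ := hFs (odd.symm i).1
    have h2 := multiplicity_of_period_eq_index e hA hX hp hi hf hind hr ht
    have hg : Nat.gcd 2 (js (odd.symm i).1).natAbs = 1 :=
      Nat.Prime.coprime_iff_not_dvd Nat.prime_two |>.mpr fun h =>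
        (odd.symm i).2 (even_iff_two_dvd.mpr (Int.natCast_dvd.mpr h))
    rw [hg, Nat.div_one] at h2
    rw [Int.two_mul_ediv_two_add_one_of_odd (Int.not_even_iff_odd.mp (odd.symm i).2)]
    exact ⟨hf, hind, h2 ▸ ht⟩
  · exact g ≪≫ (Sigma.whiskerEquiv (g := Fs) (Equiv.sumCompl fun i => Even (js i)) fun _ => Iso.refl _).symm ≪≫
      sumIso _ ≪≫
      biprod.mapIso (Sigma.whiskerEquiv (g := fun i => Fs (even.symm i).1) even fun j => eqToIso (by simp))
        (Sigma.whiskerEquiv (g := fun i => Fs (odd.symm i).1) odd fun j => eqToIso (by simp))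
where sumIso {C : Type (u+1)} [Category.{u} C] [Preadditive C] [HasFiniteBiproducts C] [HasBinaryBiproducts C]
    {α β : Type} [Fintype α] [Fintype β] (F : α ⊕ β → C) :
    (∐ F) ≅ (∐ fun a => F (Sum.inl a)) ⊞ (∐ fun b => F (Sum.inr b)) :=
  { hom := Sigma.desc fun
      | Sum.inl a => Sigma.ι (fun a => F (Sum.inl a)) a ≫ biprod.inl
      | Sum.inr b => Sigma.ι (fun b => F (Sum.inr b)) b ≫ biprod.inr
    inv := biprod.desc (Sigma.desc fun a => Sigma.ι F (Sum.inl a)) (Sigma.desc fun b => Sigma.ι F (Sum.inr b))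
    hom_inv_id := by ext (a | b) <;> simp
    inv_hom_id := by ext <;> simp }

end Groth.Agent.H23SB
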