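import Groth.Agent.H23SB.Mult
import Groth.Agent.H23KS.SplitRing
import Groth.Agent.H18Descent.Basic
import Groth.Agent.H22Alg.PnBC
import Groth.Agent.S4406
import Mathlib

/-!
# Extending a splitting field
-/

set_option autoImplicit false
set_option linter.style.haveILetI false
set_option linter.unusedSectionVars false

universe u

open CategoryTheory CategoryTheory.Limits AlgebraicGeometry Opposite TopologicalSpace

noncomputable section

namespace Groth.Agent.H23SB

open Groth.Agent

variable {k : Type u} [Field k] {K : Type u} [Field K] [Algebra k K] {L : Type u} [Field L] [Algebra k L]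
  [Algebra K L] [IsScalarTower k K L] {X : Scheme.{u}} {f : X ⟶ Spec (CommRingCat.of k)} {n : ℕ}

variable (K L n) in
theorem nonempty_pullback_twistProjSpace (j : ℤ) :
    Nonempty ((Scheme.Modules.pullback (Proj.map (H22Alg.PnBC.coeffMap n K L) (H22Alg.PnBC.irrelevant_le n K L))).obj
      (Twist.twistProjSpace n K j) ≅ Twist.twistProjSpace n L j) := by
  letI : Algebra (MvPolynomial (Fin (n + 1)) K) (MvPolynomial (Fin (n + 1)) L) := MvPolynomial.algebraMvPolynomial
  exact S4406.result (R := L) (R' := K) (CohB1.polyGrading n K) (CohB1.polyGrading n L)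
    (H22Alg.PnBC.coeffMap n K L) (fun _ => rfl) _ j

variable (L) in
/-- A splitting extends along an extension, with its twisting sheaves. -/
theorem exists_splitting_ext (e : BrSev.Splitting f K n) :
    ∃ e' : BrSev.Splitting f L n, ∀ j : ℤ, Nonempty
      ((Scheme.Modules.pullback (H23KS.SplitRing.toBcK (K := K) (R := L) f)).obj (e.twist j) ≅ e'.twist j) := by
  have h1 : IsPullback (H23KS.SplitRing.toBcK (K := K) (R := L) f ≫ e.iso.hom) (BrSev.bcTo f L)
      (CohB1.ProjSpace.toSpec n K) (Spec.map (CommRingCat.ofHom (algebraMap K L))) :=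
    (H23KS.SplitRing.isPullback_toBcK (K := K) (R := L) (f := f)).of_iso (Iso.refl _) e.iso (Iso.refl _) (Iso.refl _)
      (by simp) (by simp) (by simp [e.comm]) (by simp)
  have h2 := H22Alg.PnBC.isPullback_projSpace n K L
  let e' : BrSev.Splitting f L n := ⟨h1.isoIsPullback _ _ h2, h1.isoIsPullback_hom_snd _ _ h2⟩
  refine ⟨e', fun j => ?_⟩
  obtain ⟨t⟩ := nonempty_pullback_twistProjSpace K L n j
  exact ⟨(Scheme.Modules.pullbackComp _ _).app _ ≪≫
    (Scheme.Modules.pullbackCongr (h1.isoIsPullback_hom_fst _ _ h2).symm).app _ ≪≫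
    ((Scheme.Modules.pullbackComp _ _).app _).symm ≪≫ (Scheme.Modules.pullback e'.iso.hom).mapIso t⟩

/-- A split variety is proper. -/
theorem isProper_of_splitting (e : BrSev.Splitting f K n) : IsProper f := by
  haveI : IsProper (CohB1.ProjSpace.toSpec n K) := H27Weil.isProper_toSpec n K
  have hp : IsProper (BrSev.bcTo f K) := by
    rw [← e.comm]
    infer_instance
  haveI : Surjective (Spec.map (CommRingCat.ofHom (algebraMap k K))) :=
    ⟨fun x => ⟨(⟨⊥, Ideal.isPrime_bot⟩ : PrimeSpectrum K),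
      @Subsingleton.elim _ (inferInstanceAs (Subsingleton (PrimeSpectrum k))) _ x⟩⟩
  exact MorphismProperty.of_pullback_snd_of_descendsAlong (P := @IsProper) (Q := H18Descent.fpqc.{u})
    ⟨⟨inferInstance, inferInstance⟩, inferInstance⟩ hp

variable (L) in
/-- Types extend along an extension. -/
theorem isTwPow_ext {e : BrSev.Splitting f K n} {e' : BrSev.Splitting f L n} {j : ℤ}
    (ht : Nonempty ((Scheme.Modules.pullback (H23KS.SplitRing.toBcK (K := K) (R := L) f)).obj (e.twist j) ≅ e'.twist j))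
    {M : X.Modules} (hM : BrSev.IsTwPow e j 1 M) : BrSev.IsTwPow e' j 1 M := by
  obtain ⟨t⟩ := ht
  obtain ⟨a⟩ := hM
  exact ⟨(Scheme.Modules.pullbackCongr (pullback.lift_fst _ _ _).symm).app _ ≪≫
    ((Scheme.Modules.pullbackComp (H23KS.SplitRing.toBcK (K := K) (R := L) f) (BrSev.proj f K)).app _).symm ≪≫
    (Scheme.Modules.pullback _).mapIso (a ≪≫ coproductUniqueIso fun _ : Fin 1 => e.twist j) ≪≫ t ≪≫
    (coproductUniqueIso fun _ : Fin 1 => e'.twist j).symm⟩

variable {A : Type u} [Ring A] [Algebra k A] [Algebra.IsCentral k A] [IsSimpleRing A]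

/-- An invertible module of type `j` exists exactly when the period divides `j`. -/
theorem exists_invertible_type_iff [FiniteDimensional k K] {N : ℕ} (e : BrSev.Splitting f K N)
    (hA : Module.finrank k A = (N + 1) * (N + 1)) (hX : BrSev.IsSBOf k A ((N + 1) * (N + 1) - (N + 1)) f)
    {p : ℕ} (hp : CSAGal.IsPeriod k A p) (j : ℤ) :
    (∃ M : X.Modules, PicF.IsInvertible M ∧ BrSev.IsTwPow e j 1 M) ↔ (p : ℤ) ∣ j := by
  haveI := isProper_of_splitting e
  haveI := finiteDimensional_of_finrank hA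
  let Kb := AlgebraicClosure K
  haveI : Algebra.IsAlgebraic k Kb := Algebra.IsAlgebraic.trans k K Kb
  haveI : IsAlgClosure k Kb := ⟨inferInstance, inferInstance⟩
  obtain ⟨e', he'⟩ := exists_splitting_ext Kb e
  haveI := isIntegral_bc e'
  obtain ⟨_, _, _⟩ := H23Brauer.csa_tpow (k := k) A j.natAbs
  constructor
  · rintro ⟨M, hM, ht⟩
    haveI : ConnectedSpace X :=
      (BrSev.proj f Kb).surjective.connectedSpace (BrSev.proj f Kb).continuous
    have h := isIndex_multiplicity e' hA hX (H23Para.isFinLocFree_of_isInvertible hM)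
      (H23KS.indec_invertible hM) one_pos (isTwPow_ext Kb (he' j) ht)
    exact Int.natCast_dvd.mpr ((H23Brauer.splits_iff_dvd hp _).mp (H23Brauer.splits_iff_isIndex_one.mpr h))
  · intro hj
    obtain ⟨W, r, hW, hWi, hr, hWt⟩ := H23KS.Exists.exists_indec_twPow e' j
    obtain ⟨hinv, rfl⟩ := invertible_of_period_dvd e' hA hX hp hW hWi hj hr hWt
    refine ⟨W, hinv, ?_⟩
    obtain ⟨d, ⟨t⟩⟩ := H23KS.Twist.exists_iso_twist e (H11Ample.isInvertible_pullback (BrSev.proj f K) hinv)
    have hWd : BrSev.IsTwPow e d 1 W := ⟨t ≪≫ (coproductUniqueIso fun _ : Fin 1 => e.twist d).symm⟩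
    rcases Nat.eq_zero_or_pos N with rfl | hN
    · obtain ⟨a₁⟩ := nonempty_twist_iso_zero e d
      obtain ⟨a₂⟩ := nonempty_twist_iso_zero e j
      exact ⟨t ≪≫ a₁ ≪≫ a₂.symm ≪≫ (coproductUniqueIso fun _ : Fin 1 => e.twist j).symm⟩
    obtain ⟨a⟩ := isTwPow_ext Kb (he' d) hWd
    obtain ⟨b⟩ := hWt
    have hiso : Nonempty (e'.twist d ≅ e'.twist j) :=
      ⟨(coproductUniqueIso fun _ : Fin 1 => e'.twist d).symm ≪≫ a.symm ≪≫ b ≪≫
        coproductUniqueIso fun _ : Fin 1 => e'.twist j⟩
    have hd := H23KS.Twist.TC_injective e' hN.ne' (a₁ := Multiplicative.ofAdd d) (a₂ := Multiplicative.ofAdd j)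
      (Units.ext (H25Theta.cls_eq.2 hiso))
    obtain rfl : d = j := hd
    exact hWd

end Groth.Agent.H23SB
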