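import Groth.Agent.H23SB.Point
import Groth.Agent.H23SB.Amitsur
import Groth.Agent.H26Smooth.ProjSmooth
import Groth.Agent.H22Alg.PnBC
import Groth.Agent.H18Descent.Basic
import Groth.Agent.S4839
import Groth.Prelude.Def_W4bk4gw11416BS
import Mathlib

/-!
# Brauer–Severi schemes split by an arbitrary field
-/

set_option autoImplicit false
set_option linter.style.haveILetI false
set_option linter.unusedSectionVars false

universe u

open CategoryTheory CategoryTheory.Limits AlgebraicGeometry

noncomputable section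

namespace Groth.Agent.H23SB.BS

open Groth.Agent

variable {k : Type u} [Field k] {X : Scheme.{u}} {f : X ⟶ Spec (CommRingCat.of k)} {n : ℕ}

/-- A scheme split by some field is split by a finite one. -/
theorem isBS_of_splitting {K : Type u} [Field K] [Algebra k K] (e : BrSev.Splitting f K n) : BrSev.IsBS f n := by
  haveI := isProper_of_splitting e
  haveI : IsProper (CohB1.ProjSpace.toSpec n k) := H27Weil.isProper_toSpec n k
  let i := (H22Alg.PnBC.isPullback_projSpace n k K).isoPullback
  obtain ⟨k', _, _, hk', e', he'⟩ := S4839.result f (CohB1.ProjSpace.toSpec n k) K (e.iso ≪≫ i)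
    ((Category.assoc _ _ _).trans ((congrArg (e.iso.hom ≫ ·)
      (H22Alg.PnBC.isPullback_projSpace n k K).isoPullback_hom_snd).trans e.comm))
  let i' := (H22Alg.PnBC.isPullback_projSpace n k k').isoPullback
  exact ⟨k', inferInstance, inferInstance, hk', ⟨⟨e' ≪≫ i'.symm,
    (Category.assoc _ _ _).trans ((congrArg (e'.hom ≫ ·)
      (H22Alg.PnBC.isPullback_projSpace n k k').isoPullback_inv_snd).trans he')⟩⟩⟩

/-- The prelude's Brauer–Severi schemes are those split by a finite extension. -/
theorem exists_isBS (h : W4bk4gw11416.IsBrauerSeveri f) : ∃ n, BrSev.IsBS f n := by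
  obtain ⟨K, _, _, n, e, he⟩ := h
  exact ⟨n, isBS_of_splitting (K := K) ⟨e, he⟩⟩

/-- A splitting over the field itself. -/
theorem isProjSpaceOver_of_splitting (e : BrSev.Splitting f k n) : W4bk4gw11416.IsProjSpaceOver f n := by
  have hid : Spec.map (CommRingCat.ofHom (algebraMap k k)) = 𝟙 _ := by
    rw [Algebra.algebraMap_self]
    exact Spec.map_id _
  haveI : IsIso (Spec.map (CommRingCat.ofHom (algebraMap k k))) := hid ▸ inferInstance
  refine ⟨(asIso (BrSev.proj f k)).symm ≪≫ e.iso, ?_⟩
  show (inv (BrSev.proj f k) ≫ e.iso.hom) ≫ _ = f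
  rw [Category.assoc, e.comm, IsIso.inv_comp_eq]
  exact (pullback.condition.trans ((congrArg (pullback.snd _ _ ≫ ·) hid).trans (Category.comp_id _))).symm

/-- A Brauer–Severi scheme is smooth. -/
theorem smooth {K : Type u} [Field K] [Algebra k K] (e : BrSev.Splitting f K n) : Smooth f := by
  have hp : Smooth (BrSev.bcTo f K) := by
    rw [← e.comm]
    infer_instance
  haveI : MorphismProperty.DescendsAlong @Smooth H18Descent.fpqc.{u} :=
    inferInstanceAs (MorphismProperty.DescendsAlong @Smooth (@Surjective ⊓ @Flat ⊓ @QuasiCompact))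
  haveI : Surjective (Spec.map (CommRingCat.ofHom (algebraMap k K))) :=
    ⟨fun x => ⟨(⟨⊥, Ideal.isPrime_bot⟩ : PrimeSpectrum K),
      @Subsingleton.elim _ (inferInstanceAs (Subsingleton (PrimeSpectrum k))) _ x⟩⟩
  exact MorphismProperty.of_pullback_snd_of_descendsAlong (P := @Smooth) (Q := H18Descent.fpqc.{u})
    ⟨⟨inferInstance, inferInstance⟩, inferInstance⟩ hp

variable (f) in
/-- Iterated base change of schemes over a field. -/
theorem exists_bc_iso (K : Type u) [Field K] [Algebra k K] (L : Type u) [Field L] [Algebra k L] [Algebra K L]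
    [IsScalarTower k K L] :
    ∃ a : BrSev.bc (BrSev.bcTo f K) L ≅ BrSev.bc f L, a.hom ≫ BrSev.bcTo f L = BrSev.bcTo (BrSev.bcTo f K) L := by
  have h2 := (IsPullback.of_hasPullback (BrSev.bcTo f K) (Spec.map (CommRingCat.ofHom (algebraMap K L)))).paste_horiz
    (IsPullback.of_hasPullback f (Spec.map (CommRingCat.ofHom (algebraMap k K))))
  rw [← Spec.map_comp, ← CommRingCat.ofHom_comp, ← IsScalarTower.algebraMap_eq] at h2
  exact ⟨h2.isoPullback, h2.isoPullback_hom_snd⟩

/-- The base change of a split scheme is split. -/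
theorem nonempty_splitting_bcTo {K L : Type u} [Field K] [Algebra k K] [Field L] [Algebra k L] [Algebra K L]
    [IsScalarTower k K L] (e : BrSev.Splitting f L n) : Nonempty (BrSev.Splitting (BrSev.bcTo f K) L n) := by
  obtain ⟨a, ha⟩ := exists_bc_iso f K L
  exact ⟨⟨a ≪≫ e.iso, by rw [Iso.trans_hom, Category.assoc, e.comm, ha]⟩⟩

/-- Splittings of the base change are splittings. -/
theorem nonempty_splitting_of_bcTo {K L : Type u} [Field K] [Algebra k K] [Field L] [Algebra k L] [Algebra K L]
    [IsScalarTower k K L] (e : BrSev.Splitting (BrSev.bcTo f K) L n) : Nonempty (BrSev.Splitting f L n) := by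
  obtain ⟨a, ha⟩ := exists_bc_iso f K L
  exact ⟨⟨a.symm ≪≫ e.iso, by rw [Iso.trans_hom, Iso.symm_hom, Category.assoc, e.comm, Iso.inv_comp_eq, ha]⟩⟩

/-- A common extension of an extension and a finite extension. -/
theorem exists_compositum (k K k' : Type u) [Field k] [Field K] [Field k'] [Algebra k K] [Algebra k k']
    [Module.Finite k k'] :
    ∃ (L : Type u) (_ : Field L) (_ : Algebra K L) (_ : Algebra k' L) (_ : Algebra k L),
      IsScalarTower k K L ∧ IsScalarTower k k' L ∧ Module.Finite K L := by
  obtain ⟨m, hm⟩ := Ideal.exists_maximal (TensorProduct k K k')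
  letI : Field ((TensorProduct k K k') ⧸ m) := Ideal.Quotient.field m
  let g : k' →ₐ[k] (TensorProduct k K k') ⧸ m := (Ideal.Quotient.mkₐ k m).comp Algebra.TensorProduct.includeRight
  letI : Algebra k' ((TensorProduct k K k') ⧸ m) := g.toRingHom.toAlgebra
  exact ⟨(TensorProduct k K k') ⧸ m, inferInstance, inferInstance, inferInstance, inferInstance, inferInstance,
    IsScalarTower.of_algebraMap_eq fun x => (g.commutes x).symm,
    Module.Finite.of_surjective (Ideal.Quotient.mkₐ K m).toLinearMap Ideal.Quotient.mk_surjective⟩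

/-- The base change of a Brauer–Severi scheme is one. -/
theorem isBS_bcTo (hX : BrSev.IsBS f n) (K : Type u) [Field K] [Algebra k K] : BrSev.IsBS (BrSev.bcTo f K) n := by
  obtain ⟨k', _, _, _, ⟨e⟩⟩ := hX
  obtain ⟨L, _, _, _, _, _, _, hL⟩ := exists_compositum k K k'
  obtain ⟨e', -⟩ := exists_splitting_ext L e
  exact ⟨L, inferInstance, inferInstance, hL, nonempty_splitting_bcTo (K := K) e'⟩

/-- A Brauer–Severi scheme is geometrically integral. -/
theorem geometricallyIntegral (hX : BrSev.IsBS f n) : GeometricallyIntegral f := by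
  refine ⟨geometrically_iff_of_commRing.2 fun K _ _ Y fst snd h => ?_⟩
  obtain ⟨_, _, _, _, ⟨e⟩⟩ := isBS_bcTo hX K
  haveI : IsIntegral (BrSev.bc f K) := isIntegral_of_splitting e
  haveI : Nonempty Y := ⟨h.isoPullback.inv (genericPoint (BrSev.bc f K))⟩
  exact isIntegral_of_isOpenImmersion h.isoPullback.hom

end Groth.Agent.H23SB.BS
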