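import Groth.Agent.H23SB.BSBasic
import Groth.Agent.H22Alg.VarDim
import Groth.Agent.S1550
import Mathlib

/-!
# Galois splitting fields of Brauer–Severi schemes
-/

set_option autoImplicit false
set_option linter.style.haveILetI false
set_option linter.unusedSectionVars false

universe u

open CategoryTheory CategoryTheory.Limits AlgebraicGeometry

noncomputable section

namespace Groth.Agent.H23SB.BS

open Groth.Agent

variable {k : Type u} [Field k] {X : Scheme.{u}} {f : X ⟶ Spec (CommRingCat.of k)} {n : ℕ}

/-- A Brauer–Severi scheme has a point in a finite separable extension. -/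
theorem exists_separable_point (hX : BrSev.IsBS f n) :
    ∃ (K₀ : Type u) (_ : Field K₀) (_ : Algebra k K₀), FiniteDimensional k K₀ ∧ Algebra.IsSeparable k K₀ ∧
      ∃ s : Spec (CommRingCat.of K₀) ⟶ X, s ≫ f = Spec.map (CommRingCat.ofHom (algebraMap k K₀)) := by
  obtain ⟨K, _, _, _, ⟨e⟩⟩ := hX
  letI : X.Over (Spec (CommRingCat.of k)) := ⟨f⟩
  haveI : Smooth (X ↘ Spec (CommRingCat.of k)) := smooth e
  haveI := isIntegral_of_splitting e
  obtain ⟨x, -, -, h₁, h₂⟩ := (S1550.result k X).inter_open_nonempty Set.univ isOpen_univ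
    ⟨genericPoint X, trivial⟩
  letI := Curv2.resAlgebra k X x
  exact ⟨X.residueField x, inferInstance, inferInstance, h₁, h₂, X.fromSpecResidueField x,
    H22Alg.VarDim.fromSpecResidueField_over k X x⟩

/-- A Brauer–Severi scheme is split by a finite Galois extension. -/
theorem exists_galois_splitting (hX : BrSev.IsBS f n) :
    ∃ (K : Type u) (_ : Field K) (_ : Algebra k K), FiniteDimensional k K ∧ IsGalois k K ∧
      Nonempty (BrSev.Splitting f K n) := by
  obtain ⟨K₀, _, _, _, _, s, hs⟩ := exists_separable_point hX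
  have hsec : pullback.lift s (𝟙 _) (by rw [hs, Category.id_comp]) ≫ BrSev.bcTo f K₀ = 𝟙 _ := pullback.lift_snd _ _ _
  obtain ⟨e₀⟩ := nonempty_splitting_of_point (isBS_bcTo hX K₀) _ hsec
  obtain ⟨e₁⟩ := nonempty_splitting_of_bcTo e₀
  let φ : K₀ →ₐ[k] SeparableClosure k := IsSepClosed.lift
  haveI : FiniteDimensional k φ.fieldRange := φ.toLinearMap.finiteDimensional_range
  set N := IntermediateField.normalClosure k φ.fieldRange (SeparableClosure k) with hN
  have hle : φ.fieldRange ≤ N := φ.fieldRange.le_normalClosure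
  let χ : K₀ →ₐ[k] N := (IntermediateField.inclusion hle).comp φ.equivFieldRange.toAlgHom
  letI : Algebra K₀ N := χ.toRingHom.toAlgebra
  haveI : IsScalarTower k K₀ N := IsScalarTower.of_algebraMap_eq fun c => (χ.commutes c).symm
  haveI : IsGalois k N := { }
  obtain ⟨e', -⟩ := exists_splitting_ext N e₁
  exact ⟨N, inferInstance, inferInstance, inferInstance, inferInstance, ⟨e'⟩⟩

end Groth.Agent.H23SB.BS
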