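import Groth.Agent.H11Tilde.ProjUPUnique
import Groth.Agent.H11Tilde.TwistInv
import Groth.Agent.H11Tilde.GammaStar.Ratio
import Groth.Agent.H11Proj.ProjSpace
import Mathlib

/-!
# Generators of twisting sheaves over the coordinate charts
-/

set_option autoImplicit false
set_option linter.style.haveILetI false
set_option linter.unusedSectionVars false

universe u

open CategoryTheory CategoryTheory.Limits AlgebraicGeometry Opposite TopologicalSpace

noncomputable section

namespace Groth.Agent.H23SB

open Groth.Agent Groth.Agent.H11Tilde CohB1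

variable {N : ℕ} {K : Type u} [Field K]

/-- The chart `x_j ≠ 0`. -/
abbrev chart (j : Fin (N + 1)) : (Proj (polyGrading N K)).Opens := Proj.basicOpen (polyGrading N K) (MvPolynomial.X j)

theorem notMem_chart {j : Fin (N + 1)} {x : Proj (polyGrading N K)} (hx : x ∈ chart (K := K) j) (e : ℕ) :
    (MvPolynomial.X j : MvPolynomial (Fin (N + 1)) K) ^ e ∉ x.asHomogeneousIdeal :=
  pow_notMem _ hx _

variable (K) in
/-- The fraction `x_j ^ p / x_j ^ q` with `p - q = d`. -/
def gen (d : ℤ) (j : Fin (N + 1)) : Γ(GrMod.tilde (polyGrading N K) (polyGrading N K) d, chart (K := K) j) :=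
  secOf (polyGrading N K) (polyGrading N K)
    (SetLike.pow_mem_graded d.toNat (H11Proj.ProjSpace.X_mem N K j))
    (SetLike.pow_mem_graded (-d).toNat (H11Proj.ProjSpace.X_mem N K j)) (V := chart (K := K) j)
    (fun _ hx => notMem_chart hx _)
    (by simp only [smul_eq_mul, mul_one]; omega)

theorem isGen_gen (d : ℤ) (j : Fin (N + 1)) : IsGen (GrMod.tilde (polyGrading N K) (polyGrading N K) d) (gen K d j) :=
  isGen_of_bijective fun _ hW =>
    bijective_smul_gen (polyGrading N K) (SetLike.pow_mem_graded d.toNat (H11Proj.ProjSpace.X_mem N K j))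
      (SetLike.pow_mem_graded (-d).toNat (H11Proj.ProjSpace.X_mem N K j))
      (fun _ hx => notMem_chart (hW hx) _) (fun _ hx => notMem_chart (hW hx) _)
      (by simp only [smul_eq_mul, mul_one]; omega) _ fun _ => rfl

variable (K) in
/-- The coordinate ratio `x_l / x_j`. -/
def coordRatio (l j : Fin (N + 1)) : Γ(Proj (polyGrading N K), chart (K := K) j) :=
  ratio (polyGrading N K) (H11Proj.ProjSpace.X_mem N K j) (H11Proj.ProjSpace.X_mem N K l)

theorem gen_rel (d : ℤ) (i j : Fin (N + 1)) {W : (Proj (polyGrading N K)).Opens} (hi : W ≤ chart (K := K) i) (hj : W ≤ chart (K := K) j) :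
    (Proj (polyGrading N K)).presheaf.map (homOfLE hi).op (coordRatio K j i) *
        (Proj (polyGrading N K)).presheaf.map (homOfLE hj).op (coordRatio K i j) = 1 ∧
      (GrMod.tilde (polyGrading N K) (polyGrading N K) d).presheaf.map (homOfLE hj).op (gen K d j) =
        ((Proj (polyGrading N K)).presheaf.map (homOfLE hi).op (coordRatio K j i) ^ d.toNat *
          (Proj (polyGrading N K)).presheaf.map (homOfLE hj).op (coordRatio K i j) ^ (-d).toNat) •
          (GrMod.tilde (polyGrading N K) (polyGrading N K) d).presheaf.map (homOfLE hi).op (gen K d i) := by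
  have h1 : ∀ (l l' : Fin (N + 1)) (h : W ≤ chart (K := K) l') (x : W),
      fval (polyGrading N K) ((Proj (polyGrading N K)).presheaf.map (homOfLE h).op (coordRatio K l l')) x =
        Localization.mk (MvPolynomial.X l) ⟨MvPolynomial.X l' ^ 1, notMem_chart (h x.2) 1⟩ := fun l l' h x =>
    fval_ratio (polyGrading N K) (H11Proj.ProjSpace.X_mem N K l') (H11Proj.ProjSpace.X_mem N K l) ⟨x.1, h x.2⟩
  have hpow : ∀ (r : Γ(Proj (polyGrading N K), W)) (e : ℕ) (x : W),
      fval (polyGrading N K) (r ^ e) x = fval (polyGrading N K) r x ^ e := fun r e x => by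
    induction e with
    | zero => rw [pow_zero, pow_zero]; exact fval_one _ x
    | succ e he => rw [pow_succ, pow_succ, ← he]; exact fval_mul _ _ _ x
  refine ⟨fval_ext _ fun x => ?_, sval_ext _ _ fun x => ?_⟩
  · rw [fval_mul, fval_one, h1, h1, Localization.mk_mul]
    refine (Localization.mk_eq_mk_iff.2 (Localization.r_iff_exists.2 ⟨1, ?_⟩)).trans Localization.mk_one
    simp only [OneMemClass.coe_one, one_mul, Submonoid.coe_mul, pow_one]
    ring
  · rw [sval_smul, fval_mul, hpow, hpow, h1, h1, Localization.mk_pow, Localization.mk_pow, Localization.mk_mul]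
    show Localization.mk _ _ = Localization.mk _ _ • Localization.mk _ _
    rw [smul_eq_mul, Localization.mk_mul]
    refine Localization.mk_eq_mk_iff.2 (Localization.r_iff_exists.2 ⟨1, ?_⟩)
    simp only [OneMemClass.coe_one, one_mul, Submonoid.coe_mul, SubmonoidClass.coe_pow, pow_one]
    ring

/-- Chart data of a module isomorphic to a pulled back twisting sheaf. -/
theorem exists_chartGens {Y : Scheme.{u}} (e' : Y ⟶ Proj (polyGrading N K)) {d : ℤ} {P : Y.Modules}
    (θ : (Scheme.Modules.pullback e').obj (GrMod.tilde (polyGrading N K) (polyGrading N K) d) ≅ P) :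
    ∃ (D : Fin (N + 1) → Y.Opens) (g : ∀ j, Γ(P, D j)) (ρ : ∀ _l j : Fin (N + 1), Γ(Y, D j)),
      (∀ x, ∃ j, x ∈ D j) ∧ (∀ j, IsGen P (g j)) ∧
      ∀ (i j : Fin (N + 1)) (W : Y.Opens) (hi : W ≤ D i) (hj : W ≤ D j),
        Y.presheaf.map (homOfLE hi).op (ρ j i) * Y.presheaf.map (homOfLE hj).op (ρ i j) = 1 ∧
        P.presheaf.map (homOfLE hj).op (g j) = (Y.presheaf.map (homOfLE hi).op (ρ j i) ^ d.toNat *
          Y.presheaf.map (homOfLE hj).op (ρ i j) ^ (-d).toNat) • P.presheaf.map (homOfLE hi).op (g i) := by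
  refine ⟨fun j => e' ⁻¹ᵁ chart (K := K) j,
    fun j => θ.hom.app _ (OmegaSh.pullSect e' _ _ (gen K d j)),
    fun l j => e'.app _ (coordRatio K l j), fun x => ?_, fun j => ((isGen_gen d j).pullSect e').map_iso θ, ?_⟩
  · obtain ⟨j, hj⟩ := Opens.mem_iSup.1 ((H11Proj.ProjSpace.iSup_basicOpen (n := N) (R := K)).ge
      (trivial : e'.base x ∈ (⊤ : (Proj (polyGrading N K)).Opens)))
    exact ⟨j, hj⟩
  intro i j W hi hj
  have hW : W ≤ e' ⁻¹ᵁ (chart (K := K) i ⊓ chart (K := K) j) := fun x hx => ⟨hi hx, hj hx⟩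
  obtain ⟨h1, h2⟩ := gen_rel (K := K) d i j (inf_le_left (b := chart (K := K) j)) (inf_le_right (a := chart (K := K) i))
  have happ : ∀ {U U' : (Proj (polyGrading N K)).Opens} (h : U' ≤ U) (h' : W ≤ e' ⁻¹ᵁ U') (r : Γ(Proj (polyGrading N K), U)),
      Y.presheaf.map (homOfLE h').op (e'.app U' ((Proj (polyGrading N K)).presheaf.map (homOfLE h).op r)) =
        Y.presheaf.map (homOfLE (h'.trans (e'.preimage_mono h))).op (e'.app U r) := fun {U U'} h h' r => by
    have hn : e'.app U' ((Proj (polyGrading N K)).presheaf.map (homOfLE h).op r) =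
        Y.presheaf.map (homOfLE (e'.preimage_mono h)).op (e'.app U r) :=
      congr($(congr(ConcreteCategory.hom $(e'.naturality (homOfLE h).op))) r)
    rw [hn, H10Coh.rres_rres]
  refine ⟨?_, ?_⟩
  · have := congrArg (fun r => Y.presheaf.map (homOfLE hW).op (e'.app _ r)) h1
    simp only [map_mul, map_one] at this
    rw [happ, happ] at this
    exact this
  · have h := congrArg (fun s => P.presheaf.map (homOfLE hW).op
      (θ.hom.app _ (OmegaSh.pullSect e' (GrMod.tilde (polyGrading N K) (polyGrading N K) d) _ s))) h2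
    simp only [OmegaSh.pullSect_smul, Scheme.Modules.Hom.app_smul, Scheme.Modules.map_smul, map_mul, map_pow] at h
    rw [happ, happ, pullSect_res, pullSect_res, app_map_apply, app_map_apply, H10Coh.mres_mres, H10Coh.mres_mres] at h
    exact h

end Groth.Agent.H23SB
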