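import Mathlib

/-!
# Degrees of rational functions from their orders

A rational function whose orders are divisible by `d` at every finite point and whose order at infinity is one more
than a multiple of `d` forces `d ∣ 1`.
-/

set_option autoImplicit false

universe u

open Polynomial

noncomputable section

namespace Groth.Agent.H23SB

variable {K : Type u} [Field K]

/-- The order at a finite point. -/
def ordAt (a : K) (f : RatFunc K) : ℤ := (rootMultiplicity a f.num : ℤ) - rootMultiplicity a f.denom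

theorem ordAt_div (a : K) {P Q : K[X]} (hP : P ≠ 0) (hQ : Q ≠ 0) :
    ordAt a (algebraMap K[X] (RatFunc K) P / algebraMap K[X] (RatFunc K) Q) =
      (rootMultiplicity a P : ℤ) - rootMultiplicity a Q := by
  set f := algebraMap K[X] (RatFunc K) P / algebraMap K[X] (RatFunc K) Q with hfdef
  have hf : f ≠ 0 := div_ne_zero (RatFunc.algebraMap_ne_zero hP) (RatFunc.algebraMap_ne_zero hQ)
  have h : f.num * Q = P * f.denom := by
    apply RatFunc.algebraMap_injective K
    rw [map_mul, map_mul]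
    exact (div_eq_div_iff (RatFunc.algebraMap_ne_zero f.denom_ne_zero) (RatFunc.algebraMap_ne_zero hQ)).1
      ((RatFunc.num_div_denom f).trans hfdef)
  have h2 := congrArg (rootMultiplicity a) h
  rw [rootMultiplicity_mul (mul_ne_zero (RatFunc.num_ne_zero hf) hQ), rootMultiplicity_mul (mul_ne_zero hP f.denom_ne_zero)] at h2
  unfold ordAt
  omega

theorem ordAt_mul (a : K) {f g : RatFunc K} (hf : f ≠ 0) (hg : g ≠ 0) : ordAt a (f * g) = ordAt a f + ordAt a g := by
  have h : f * g = algebraMap K[X] (RatFunc K) (f.num * g.num) / algebraMap K[X] (RatFunc K) (f.denom * g.denom) := by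
    rw [map_mul, map_mul, ← div_mul_div_comm, RatFunc.num_div_denom, RatFunc.num_div_denom]
  rw [h, ordAt_div a (mul_ne_zero (RatFunc.num_ne_zero hf) (RatFunc.num_ne_zero hg))
    (mul_ne_zero f.denom_ne_zero g.denom_ne_zero), rootMultiplicity_mul (mul_ne_zero (RatFunc.num_ne_zero hf) (RatFunc.num_ne_zero hg)),
    rootMultiplicity_mul (mul_ne_zero f.denom_ne_zero g.denom_ne_zero)]
  unfold ordAt
  push_cast
  ring

theorem additive_zpow {F : Type*} [Field F] (v : F → ℤ) (hv : ∀ {x y : F}, x ≠ 0 → y ≠ 0 → v (x * y) = v x + v y)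
    {z : F} (hz : z ≠ 0) (d : ℤ) : v (z ^ d) = d * v z := by
  have h1 : v 1 = 0 := by
    have := hv (one_ne_zero (α := F)) one_ne_zero
    rw [one_mul] at this
    omega
  induction d using Int.induction_on with
  | zero => simp [h1]
  | succ i hi =>
    rw [zpow_add_one₀ hz, hv (zpow_ne_zero _ hz) hz, hi]
    ring
  | pred i hi =>
    have h := hv (zpow_ne_zero (-(i : ℤ) - 1) hz) hz
    rw [← zpow_add_one₀ hz, sub_add_cancel, hi] at h
    linarith

theorem intDegree_eq_sum [IsAlgClosed K] (f : RatFunc K) :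
    ∃ S : Finset K, f.intDegree = ∑ a ∈ S, ordAt a f := by
  classical
  refine ⟨f.num.roots.toFinset ∪ f.denom.roots.toFinset, ?_⟩
  have h : ∀ P : K[X], ∀ S : Finset K, P.roots.toFinset ⊆ S → ∑ a ∈ S, (rootMultiplicity a P : ℤ) = P.natDegree := by
    intro P S hS
    rw [← IsAlgClosed.card_roots_eq_natDegree, ← Multiset.toFinset_sum_count_eq, Nat.cast_sum]
    simp only [count_roots]
    refine (Finset.sum_subset hS fun a _ ha => ?_).symm
    rw [← count_roots, Multiset.count_eq_zero.2 fun h => ha (Multiset.mem_toFinset.2 h), Nat.cast_zero]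
  simp only [ordAt, RatFunc.intDegree, Finset.sum_sub_distrib]
  rw [h _ _ Finset.subset_union_left, h _ _ Finset.subset_union_right]

theorem intDegree_aeval_inv_X {U : K[X]} (hU : U.eval 0 ≠ 0) :
    aeval (RatFunc.X : RatFunc K)⁻¹ U ≠ 0 ∧ (aeval (RatFunc.X : RatFunc K)⁻¹ U).intDegree = 0 := by
  let N := U.natDegree
  haveI : Invertible ((RatFunc.X : RatFunc K)⁻¹) := invertibleOfNonzero (inv_ne_zero RatFunc.X_ne_zero)
  have h := eval₂_reflect_mul_pow (algebraMap K (RatFunc K)) (RatFunc.X : RatFunc K)⁻¹ N U le_rfl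
  rw [invOf_eq_inv, inv_inv] at h
  have h2 : eval₂ (algebraMap K (RatFunc K)) RatFunc.X (reflect N U) = algebraMap K[X] (RatFunc K) (reflect N U) := by
    rw [← aeval_def, ← RatFunc.algebraMap_X, aeval_algebraMap_apply, aeval_X_left_apply]
  rw [h2] at h
  have hc : (reflect N U).coeff N ≠ 0 := by
    rwa [coeff_reflect, revAt_le le_rfl, Nat.sub_self, coeff_zero_eq_eval_zero]
  have hne : reflect N U ≠ 0 := fun h0 => hc (by rw [h0, coeff_zero])
  have hdeg : (reflect N U).natDegree = N := by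
    refine le_antisymm ?_ (le_natDegree_of_ne_zero hc)
    refine natDegree_le_iff_coeff_eq_zero.2 fun l hl => ?_
    rw [coeff_reflect, revAt_eq_self_of_lt hl]
    exact coeff_eq_zero_of_natDegree_lt hl
  rw [aeval_def, ← h]
  have hX : (RatFunc.X : RatFunc K)⁻¹ ≠ 0 := inv_ne_zero RatFunc.X_ne_zero
  refine ⟨mul_ne_zero (RatFunc.algebraMap_ne_zero hne) (pow_ne_zero _ hX), ?_⟩
  rw [RatFunc.intDegree_mul (RatFunc.algebraMap_ne_zero hne) (pow_ne_zero _ hX), RatFunc.intDegree_polynomial, hdeg,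
    ← zpow_natCast, additive_zpow RatFunc.intDegree RatFunc.intDegree_mul hX, RatFunc.intDegree_inv, RatFunc.intDegree_X]
  ring

/-- Orders at all places. -/
theorem dvd_one_of_places [IsAlgClosed K] {d : ℤ} {lam : RatFunc K} (hlam : lam ≠ 0)
    (hfin : ∀ a : K, ∃ (z : RatFunc K) (U W : K[X]), z ≠ 0 ∧ U.eval a ≠ 0 ∧ W.eval a ≠ 0 ∧
      z ^ d * lam = algebraMap K[X] (RatFunc K) U / algebraMap K[X] (RatFunc K) W)
    (hinf : ∃ (z : RatFunc K) (U W : K[X]), z ≠ 0 ∧ U.eval 0 ≠ 0 ∧ W.eval 0 ≠ 0 ∧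
      z ^ d * lam = aeval (RatFunc.X : RatFunc K)⁻¹ U / aeval (RatFunc.X : RatFunc K)⁻¹ W * RatFunc.X⁻¹) :
    d ∣ 1 := by
  have hord : ∀ a, d ∣ ordAt a lam := fun a => by
    obtain ⟨z, U, W, hz, hU, hW, h⟩ := hfin a
    have h2 := congrArg (ordAt a) h
    rw [ordAt_mul a (zpow_ne_zero _ hz) hlam, additive_zpow (ordAt a) (ordAt_mul a) hz,
      ordAt_div a (fun h0 => hU (by rw [h0, eval_zero])) (fun h0 => hW (by rw [h0, eval_zero])),
      rootMultiplicity_eq_zero hU, rootMultiplicity_eq_zero hW] at h2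
    exact ⟨-ordAt a z, by linarith⟩
  obtain ⟨S, hS⟩ := intDegree_eq_sum lam
  have hdeg : d ∣ lam.intDegree := hS ▸ Finset.dvd_sum fun a _ => hord a
  obtain ⟨z, U, W, hz, hU, hW, h⟩ := hinf
  obtain ⟨hU0, hUd⟩ := intDegree_aeval_inv_X hU
  obtain ⟨hW0, hWd⟩ := intDegree_aeval_inv_X hW
  have h2 := congrArg RatFunc.intDegree h
  rw [RatFunc.intDegree_mul (zpow_ne_zero _ hz) hlam, additive_zpow RatFunc.intDegree RatFunc.intDegree_mul hz,
    RatFunc.intDegree_mul (div_ne_zero hU0 hW0) (inv_ne_zero RatFunc.X_ne_zero), div_eq_mul_inv,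
    RatFunc.intDegree_mul hU0 (inv_ne_zero hW0), RatFunc.intDegree_inv, RatFunc.intDegree_inv, hUd, hWd,
    RatFunc.intDegree_X] at h2
  have h3 : d ∣ (-1 : ℤ) := by
    rw [show (-1 : ℤ) = d * z.intDegree + lam.intDegree by linarith]
    exact dvd_add (dvd_mul_right _ _) hdeg
  exact (dvd_neg).1 h3

end Groth.Agent.H23SB
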