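import Groth.Agent.H23SB.Line
import Groth.Agent.H23SB.Places
import Mathlib

/-!
# The degree of the corner is a unit

A curve of lines shows that local generators of the corner which transform like the `d`-th power of the coordinates
force `d ∣ 1`.
-/

set_option autoImplicit false
set_option linter.style.haveILetI false
set_option linter.unusedSectionVars false

universe u

open CategoryTheory CategoryTheory.Limits AlgebraicGeometry Opposite TopologicalSpace
open scoped TensorProduct Polynomial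

noncomputable section

namespace Groth.Agent.H23SB

open Groth.Agent Groth.Agent.H02CA.SB

attribute [local instance] alg Abelian.hasFiniteBiproducts

/-- A morphism from the spectrum of a local ring whose closed point lies in an affine open factors through it. -/
theorem exists_factor {Y : Scheme.{u}} {R : Type u} [CommRing R] [IsLocalRing R] (y : Spec (CommRingCat.of R) ⟶ Y)
    {W : Y.Opens} (hW : IsAffineOpen W) (h : y.base (IsLocalRing.closedPoint R) ∈ W) :
    ∃ φ : Γ(Y, W) →+* R, Spec.map (CommRingCat.ofHom φ) ≫ hW.fromSpec = y := by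
  have hr : Set.range y.base ⊆ Set.range hW.fromSpec.base := by
    rw [hW.range_fromSpec]
    rintro _ ⟨z, rfl⟩
    exact ((IsLocalRing.specializes_closedPoint z).map y.continuous).mem_open W.isOpen h
  refine ⟨(Spec.preimage (IsOpenImmersion.lift hW.fromSpec y hr)).hom, ?_⟩
  rw [CommRingCat.ofHom_hom, Spec.map_preimage, IsOpenImmersion.lift_fac]

/-- Factorisations through nested affine opens agree. -/
theorem factor_res {Y : Scheme.{u}} {R : Type u} [CommRing R] {W W' : Y.Opens} (hW : IsAffineOpen W)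
    (hW' : IsAffineOpen W') (h : W' ≤ W) {φ : Γ(Y, W) →+* R} {φ' : Γ(Y, W') →+* R}
    (he : Spec.map (CommRingCat.ofHom φ) ≫ hW.fromSpec = Spec.map (CommRingCat.ofHom φ') ≫ hW'.fromSpec) (r : Γ(Y, W)) :
    φ r = φ' (Y.presheaf.map (homOfLE h).op r) := by
  rw [← hW.map_fromSpec hW' (homOfLE h).op, ← Category.assoc, cancel_mono, ← Spec.map_comp] at he
  exact RingHom.congr_fun (congrArg CommRingCat.Hom.hom (Spec.map_injective he)) r

/-- The vector `(1, t, 0, …)`. -/
def curveVec {F : Type*} [CommRing F] (t : F) {n : ℕ} (i j : Fin n) : Fin n → F := Pi.single i 1 + Pi.single j t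

theorem map_curveVec {F G : Type*} [CommRing F] [CommRing G] (f : F →+* G) (t : F) {n : ℕ} (i j : Fin n) :
    ⇑f ∘ curveVec t i j = curveVec (f t) i j := by
  funext l
  simp only [curveVec, Function.comp_apply, Pi.add_apply, map_add, Pi.single_apply]
  split_ifs <;> simp

theorem curveVec_left {F : Type*} [CommRing F] (t : F) {n : ℕ} {i j : Fin n} (h : i ≠ j) : curveVec t i j i = 1 := by
  simp [curveVec, h]

theorem smul_curveVec_inv {F : Type*} [Field F] {t : F} (ht : t ≠ 0) {n : ℕ} (i j : Fin n) :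
    t⁻¹ • curveVec t i j = curveVec t⁻¹ j i := by
  funext l
  simp only [curveVec, Pi.smul_apply, Pi.add_apply, Pi.single_apply, smul_eq_mul]
  split_ifs <;> simp [mul_add, inv_mul_cancel₀ ht, add_comm]

variable {k : Type u} [Field k] {A : Type u} [Ring A] [Algebra k A] [Module.Finite k A] {n : ℕ} [NeZero n]
  {X : Scheme.{u}} [X.Over (Spec (CommRingCat.of k))] {m : ℕ} (b : Module.Basis (Fin m) k A)
  (str : BrSev.SBStr k A (n * n - n) (X ↘ Spec (CommRingCat.of k)))
  {K : Type u} [Field K] [Algebra k K] {X' : Scheme.{u}} [X'.Over (Spec (CommRingCat.of K))] {q : X' ⟶ X}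
  (hsq : IsPullback q (X' ↘ Spec (CommRingCat.of K)) (X ↘ Spec (CommRingCat.of k))
    (Spec.map (CommRingCat.ofHom (algebraMap k K))))
  (eA : K ⊗[k] A ≃ₐ[K] Matrix (Fin n) (Fin n) K)
  {P : X'.Modules} (ι : P ⟶ (Scheme.Modules.pullback q).obj (V b str))
  (p : (Scheme.Modules.pullback q).obj (V b str) ⟶ P)
  (hpι : p ≫ ι = (letI := H23KS.endAlgebra K ((Scheme.Modules.pullback q).obj (V b str));
    rhoM b str hsq (eA.symm (Matrix.single 0 0 1))))

theorem r0_res_res {D W W' : X'.Opens} (h : W ≤ D) (h' : W' ≤ W) (g : Γ(P, D)) (l : Fin n) :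
    X'.presheaf.map (homOfLE h').op (r0 b str eA ι W (P.presheaf.map (homOfLE h).op g) l) =
      r0 b str eA ι W' (P.presheaf.map (homOfLE (h'.trans h)).op g) l := by
  rw [← H10Coh.mres_mres P h h' g, r0_res b str eA ι h']
  rfl

include hsq hpι in
/-- Generators of the corner transforming like a `d`-th power force `d ∣ 1`. -/
theorem degree_dvd_one [IsAlgClosed K] [IsIntegral X'] (hn : 1 < n) {N : Type} (D : N → X'.Opens)
    (hD : ∀ x, ∃ j, x ∈ D j) (g : ∀ j, Γ(P, D j)) (hg : ∀ j, H11Tilde.IsGen P (g j))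
    (ρ : ∀ _l j : N, Γ(X', D j)) (P₀ Q₀ : ℕ)
    (hρ : ∀ (i j : N) (W : X'.Opens) (hi : W ≤ D i) (hj : W ≤ D j),
      X'.presheaf.map (homOfLE hi).op (ρ j i) * X'.presheaf.map (homOfLE hj).op (ρ i j) = 1 ∧
      P.presheaf.map (homOfLE hj).op (g j) = (X'.presheaf.map (homOfLE hi).op (ρ j i) ^ P₀ *
        X'.presheaf.map (homOfLE hj).op (ρ i j) ^ Q₀) • P.presheaf.map (homOfLE hi).op (g i)) :
    (P₀ : ℤ) - Q₀ ∣ 1 := by
  classical
  obtain ⟨i1, i2, h12⟩ : ∃ i1 i2 : Fin n, i1 ≠ i2 :=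
    ⟨⟨0, by omega⟩, ⟨1, hn⟩, fun h => zero_ne_one (congrArg Fin.val h)⟩
  let Ω := RatFunc K
  let τΩ : K →ₐ[k] Ω := IsScalarTower.toAlgHom k K Ω
  let t : Ω := RatFunc.X
  let w₀ : Fin n → Ω := curveVec t i1 i2
  have hw₀ : IsUnit (w₀ i1) := by
    rw [show w₀ i1 = 1 from curveVec_left t h12]
    exact isUnit_one
  obtain ⟨ξ, hξ, hLξ⟩ := exists_point str hsq eA τΩ (isLine_span hw₀)
  let x₀ : X' := ξ.base (IsLocalRing.closedPoint Ω)
  obtain ⟨j₀, hj₀⟩ := hD x₀
  obtain ⟨U₀, hU₀, hqU₀, -⟩ := exists_isAffineOpen_mem_and_subset (U := (⊤ : X.Opens)) (x := q x₀) trivial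
  obtain ⟨W₀, hW₀, hxW₀, hW₀le⟩ := exists_isAffineOpen_mem_and_subset (U := D j₀ ⊓ q ⁻¹ᵁ U₀) (x := x₀) ⟨hj₀, hqU₀⟩
  obtain ⟨φ₀, hφ₀⟩ := exists_factor ξ hW₀ hxW₀
  let g₀ := P.presheaf.map (homOfLE (le_trans hW₀le inf_le_left)).op (g j₀)
  have hL₀ := lineY_eq b str hsq eA ι p hpι hU₀ hW₀ ⟨⟨x₀, hxW₀⟩⟩ (le_trans hW₀le inf_le_right) (g := g₀)
    ((hg j₀).bijective _).2 hξ φ₀ hφ₀
  rw [hLξ] at hL₀
  obtain ⟨lam, hlam⟩ := Submodule.mem_span_singleton.1
    (hL₀.symm ▸ Submodule.mem_span_singleton_self (⇑φ₀ ∘ r0 b str eA ι W₀ g₀) :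
      ⇑φ₀ ∘ r0 b str eA ι W₀ g₀ ∈ Submodule.span Ω {w₀})
  have hlam0 : lam ≠ 0 := fun h => by
    rw [← hlam, h, zero_smul, Submodule.span_singleton_eq_bot.2 rfl] at hL₀
    exact hw₀.ne_zero (by rw [Submodule.span_singleton_eq_bot.1 hL₀]; rfl)
  -- a place and a representative of the line there
  have place : ∀ (σ : K[X] →ₐ[K] Ω), Function.Injective σ → ∀ (a : K) (v : Fin n → K[X]) (c : Ω), c ≠ 0 →
      (∃ i, v i = 1) → ⇑σ ∘ v = c • w₀ →
      ∃ (z : Ω) (U W : K[X]), z ≠ 0 ∧ U.eval a ≠ 0 ∧ W.eval a ≠ 0 ∧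
        z ^ ((P₀ : ℤ) - Q₀) * lam = σ U / σ W * c := by
    intro σ hσ a v c hc hvi hv
    obtain ⟨i, hvi⟩ := hvi
    let 𝔭 : Ideal K[X] := Ideal.span {Polynomial.X - Polynomial.C a}
    haveI h𝔭 : 𝔭.IsPrime :=
      (Ideal.span_singleton_prime (Polynomial.X_sub_C_ne_zero a)).2 (Polynomial.prime_X_sub_C a)
    have hmem : ∀ f : K[X], f ∉ 𝔭 → f.eval a ≠ 0 := fun f hf h0 =>
      hf (Ideal.mem_span_singleton.2 (Polynomial.dvd_iff_isRoot.2 h0))
    let O := Localization.AtPrime 𝔭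
    have hu : ∀ f : 𝔭.primeCompl, IsUnit (σ (f : K[X])) := fun f =>
      isUnit_iff_ne_zero.2 fun h0 => f.2 (by rw [hσ (h0.trans (map_zero σ).symm)]; exact 𝔭.zero_mem)
    let σO : O →ₐ[K] Ω := IsLocalization.liftAlgHom (M := 𝔭.primeCompl) (f := σ) hu
    have hσO : ∀ f : K[X], σO (algebraMap K[X] O f) = σ f := fun f => IsLocalization.lift_eq _ f
    let σk : O →ₐ[k] Ω := σO.restrictScalars k
    let τO : K →ₐ[k] O := IsScalarTower.toAlgHom k K O
    have hτ : σk.comp τO = τΩ := AlgHom.ext fun r => σO.commutes r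
    let vO : Fin n → O := ⇑(algebraMap K[X] O) ∘ v
    have hvO : vO i = 1 := by simp [vO, hvi]
    obtain ⟨y, hy, hLy⟩ := exists_point str hsq eA τO (isLine_span (v := vO) (i := i) (hvO ▸ isUnit_one))
    have hσv : ⇑σk.toRingHom ∘ vO = c • w₀ := by
      rw [← hv]
      exact funext fun l => hσO (v l)
    have hξy : Spec.map (CommRingCat.ofHom (σk : O →+* Ω)) ≫ y = ξ := by
      have hy' := comp_map_eq hsq σk hy
      rw [hτ] at hy'
      refine lineY_injective str hsq eA hy' hξ ?_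
      have h1 : ∀ {τ' : K →ₐ[k] Ω} (e : σk.comp τO = τ')
          (h' : (Spec.map (CommRingCat.ofHom (σk : O →+* Ω)) ≫ y) ≫ (X' ↘ Spec (CommRingCat.of K)) =
            Spec.map (CommRingCat.ofHom (τ' : K →+* Ω))),
          lineY str hsq eA h' = mapL σk.toRingHom (lineY str hsq eA hy) := by
        rintro _ rfl h'
        exact lineY_map str hsq eA σk hy
      rw [h1 hτ, hLy, hLξ, mapL_span_singleton, hσv]
      exact Submodule.span_singleton_smul_eq (isUnit_iff_ne_zero.2 hc) _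
    let x : X' := y.base (IsLocalRing.closedPoint O)
    obtain ⟨j, hj⟩ := hD x
    obtain ⟨U, hU, hqU, -⟩ := exists_isAffineOpen_mem_and_subset (U := (⊤ : X.Opens)) (x := q x) trivial
    obtain ⟨W, hW, hxW, hWle⟩ := exists_isAffineOpen_mem_and_subset (U := D j ⊓ q ⁻¹ᵁ U) (x := x) ⟨hj, hqU⟩
    obtain ⟨φ, hφ⟩ := exists_factor y hW hxW
    let gW := P.presheaf.map (homOfLE (le_trans hWle inf_le_left)).op (g j)
    have hL := lineY_eq b str hsq eA ι p hpι hU hW ⟨⟨x, hxW⟩⟩ (le_trans hWle inf_le_right) (g := gW)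
      ((hg j).bijective _).2 hy φ hφ
    rw [hLy] at hL
    obtain ⟨u, hu'⟩ := Submodule.mem_span_singleton.1
      (hL.symm ▸ Submodule.mem_span_singleton_self (⇑φ ∘ r0 b str eA ι W gW) :
        ⇑φ ∘ r0 b str eA ι W gW ∈ Submodule.span O {vO})
    have hu1 : IsUnit u := by
      obtain ⟨u', hu''⟩ := Submodule.mem_span_singleton.1 (hL ▸ Submodule.mem_span_singleton_self vO :
        vO ∈ Submodule.span O {⇑φ ∘ r0 b str eA ι W gW})
      rw [← hu', smul_smul] at hu''
      have := congrFun hu'' i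
      rw [Pi.smul_apply, smul_eq_mul, hvO, mul_one] at this
      exact isUnit_iff_exists_inv'.2 ⟨u', this⟩
    obtain ⟨⟨U', W'⟩, hUW⟩ := IsLocalization.surj 𝔭.primeCompl u
    have hU' : U' ∈ 𝔭.primeCompl := by
      have : IsUnit (algebraMap K[X] O U') := hUW ▸ hu1.mul (IsLocalization.map_units O W')
      exact (IsLocalization.AtPrime.isUnit_to_map_iff O 𝔭 U').1 this
    -- a common affine open around the generic point of the curve
    have hxξ : x₀ ∈ W := by
      have hsp : y.base ((Spec.map (CommRingCat.ofHom (σk : O →+* Ω))).base (IsLocalRing.closedPoint Ω)) ⤳ x :=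
        (IsLocalRing.specializes_closedPoint _).map y.continuous
      have := hsp.mem_open W.isOpen hxW
      show ξ.base (IsLocalRing.closedPoint Ω) ∈ W
      rw [← hξy]
      exact this
    obtain ⟨W₁, hW₁, hxW₁, hW₁le'⟩ := exists_isAffineOpen_mem_and_subset (U := W ⊓ W₀) (x := x₀) ⟨hxξ, hxW₀⟩
    have hW₁le : W₁ ≤ W ⊓ W₀ := hW₁le'
    obtain ⟨φ₁, hφ₁⟩ := exists_factor ξ hW₁ hxW₁
    have h0 := factor_res hW₀ hW₁ (le_trans hW₁le inf_le_right) (hφ₀.trans hφ₁.symm)
    have hW' : ∀ r, σk (φ r) = φ₁ (X'.presheaf.map (homOfLE (le_trans hW₁le inf_le_left)).op r) := fun r =>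
      factor_res hW hW₁ (le_trans hW₁le inf_le_left) (φ := (σk : O →+* Ω).comp φ) (φ' := φ₁)
        (by rw [CommRingCat.ofHom_comp, Spec.map_comp, Category.assoc, hφ, hξy, hφ₁]) r
    have hji : W₁ ≤ D j₀ := le_trans (le_trans hW₁le inf_le_right) (le_trans hW₀le inf_le_left)
    have hjj : W₁ ≤ D j := le_trans (le_trans hW₁le inf_le_left) (le_trans hWle inf_le_left)
    obtain ⟨hprod, hrel⟩ := hρ j₀ j W₁ hji hjj
    let z : Ω := φ₁ (X'.presheaf.map (homOfLE hji).op (ρ j j₀))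
    let z' : Ω := φ₁ (X'.presheaf.map (homOfLE hjj).op (ρ j₀ j))
    have hzz : z * z' = 1 := by
      show φ₁ _ * φ₁ _ = 1
      rw [← map_mul, hprod, map_one]
    have hz : z ≠ 0 := left_ne_zero_of_mul_eq_one hzz
    have hz' : z' = z⁻¹ := (eq_inv_of_mul_eq_one_right hzz)
    have key : (σk u * c) • w₀ = (z ^ ((P₀ : ℤ) - Q₀) * lam) • w₀ := by
      rw [mul_smul, ← hσv, mul_smul, hlam]
      funext l
      simp only [Pi.smul_apply, Function.comp_apply, smul_eq_mul]
      show σk u * σk (vO l) = _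
      rw [← map_mul]
      have e1 : u * vO l = φ (r0 b str eA ι W gW l) := congrFun hu' l
      rw [e1, hW', h0]
      have e2 : X'.presheaf.map (homOfLE (le_trans hW₁le inf_le_left)).op (r0 b str eA ι W gW l) =
          r0 b str eA ι W₁ (P.presheaf.map (homOfLE hjj).op (g j)) l :=
        r0_res_res b str eA ι _ _ (g j) l
      have e3 : X'.presheaf.map (homOfLE (le_trans hW₁le inf_le_right)).op (r0 b str eA ι W₀ g₀ l) =
          r0 b str eA ι W₁ (P.presheaf.map (homOfLE hji).op (g j₀)) l :=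
        r0_res_res b str eA ι _ _ (g j₀) l
      rw [e2, e3, hrel, map_smul, Pi.smul_apply, smul_eq_mul, map_mul, map_mul, map_pow, map_pow]
      show z ^ P₀ * z' ^ Q₀ * _ = _
      rw [hz', inv_pow, zpow_sub₀ hz, zpow_natCast, zpow_natCast, div_eq_mul_inv]
    have hkey := congrFun key i1
    simp only [Pi.smul_apply, smul_eq_mul, show w₀ i1 = 1 from curveVec_left t h12, mul_one] at hkey
    refine ⟨z, U', (W' : K[X]), hz, hmem _ hU', hmem _ W'.2, ?_⟩
    rw [← hkey]
    congr 1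
    rw [eq_div_iff (hu W').ne_zero, ← hσO, ← hσO, ← hUW, map_mul]
    rfl
  have hinjσ : Function.Injective (Polynomial.aeval (RatFunc.X : Ω)⁻¹ : K[X] →ₐ[K] Ω) :=
    transcendental_iff_injective.1 (mt IsAlgebraic.inv_iff.1 RatFunc.transcendental_X)
  refine dvd_one_of_places hlam0 (fun a => ?_) ?_
  · obtain ⟨z, U, W, hz, hU, hW, h⟩ := place (IsScalarTower.toAlgHom K K[X] Ω) (RatFunc.algebraMap_injective K) a
      (curveVec Polynomial.X i1 i2) 1 one_ne_zero ⟨i1, curveVec_left _ h12⟩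
      (by rw [one_smul]; exact (map_curveVec (algebraMap K[X] Ω) _ i1 i2).trans (by rw [RatFunc.algebraMap_X]))
    exact ⟨z, U, W, hz, hU, hW, h.trans (mul_one _)⟩
  · exact place _ hinjσ 0 (curveVec Polynomial.X i2 i1) t⁻¹ (inv_ne_zero RatFunc.X_ne_zero)
      ⟨i2, curveVec_left _ h12.symm⟩
      ((map_curveVec (Polynomial.aeval (t⁻¹) : K[X] →ₐ[K] Ω).toRingHom _ i2 i1).trans
        (by rw [smul_curveVec_inv RatFunc.X_ne_zero]; simp))

end Groth.Agent.H23SB
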