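import Groth.Agent.H23KS.FieldBC
import Groth.Agent.H23KS.Isotypical
import Groth.Agent.H23KS.RankOne
import Groth.Agent.H23KS.Types
import Groth.Agent.H23KS.EndProper
import Mathlib

/-!
# Endomorphism algebras of isotypical modules
-/

set_option autoImplicit false
set_option linter.style.haveILetI false
set_option linter.unusedSectionVars false

universe u

open CategoryTheory CategoryTheory.Limits AlgebraicGeometry Opposite TopologicalSpace

noncomputable section

namespace Groth.Agent.H23SB

open Groth.Agent

attribute [local instance] Abelian.hasFiniteBiproducts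

variable {k : Type u} [Field k] {K : Type u} [Field K] [Algebra k K] [IsAlgClosed K] {X : Scheme.{u}}
  [X.Over (Spec (CommRingCat.of k))] [IsProper (X ↘ Spec (CommRingCat.of k))]
  {X' : Scheme.{u}} [X'.Over (Spec (CommRingCat.of K))] [IsProper (X' ↘ Spec (CommRingCat.of K))] [IsIntegral X']
  {q : X' ⟶ X}
  (hsq : IsPullback q (X' ↘ Spec (CommRingCat.of K)) (X ↘ Spec (CommRingCat.of k))
    (Spec.map (CommRingCat.ofHom (algebraMap k K))))

theorem map_smulMod_pullback {k : Type u} [Field k] {K : Type u} [Field K] [Algebra k K] {X : Scheme.{u}}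
  [X.Over (Spec (CommRingCat.of k))] {X' : Scheme.{u}} [X'.Over (Spec (CommRingCat.of K))] {q : X' ⟶ X}
  (hsq : IsPullback q (X' ↘ Spec (CommRingCat.of K)) (X ↘ Spec (CommRingCat.of k))
    (Spec.map (CommRingCat.ofHom (algebraMap k K)))) {G : X.Modules} {r : k} :
    (Scheme.Modules.pullback q).map (Formal.smulMod k G r) =
      Formal.smulMod K ((Scheme.Modules.pullback q).obj G) (algebraMap k K r) := by
  apply ((Scheme.Modules.pullbackPushforwardAdjunction q).homEquiv G _).injective
  rw [Adjunction.homEquiv_unit, Adjunction.homEquiv_unit]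
  refine Scheme.Modules.hom_ext _ _ fun U => ConcreteCategory.hom_ext _ _ fun s => ?_
  show ((Scheme.Modules.pullback q).map (Formal.smulMod k G r)).app (q ⁻¹ᵁ U) (OmegaSh.pullSect q G U s) =
    LeadFF.scal (X' ↘ Spec (CommRingCat.of K)) (q ⁻¹ᵁ U) (algebraMap k K r) • OmegaSh.pullSect q G U s
  rw [← H17.PullSect.pullSect_natural]
  show OmegaSh.pullSect q G U (LeadFF.scal (X ↘ Spec (CommRingCat.of k)) U r • s) = _
  rw [OmegaSh.pullSect_smul, LeadFF.app_scal hsq U r]

include hsq in
/-- The endomorphism algebra of a module of type `(L, s)` has dimension `s ^ 2`. -/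
theorem finrank_end {E : X.Modules} (hE : Coh.IsCoh E) {L : X'.Modules} (hL : PicF.IsInvertible L) (hL0 : ¬ IsZero L)
    {s : ℕ} (a : (Scheme.Modules.pullback q).obj E ≅ ∐ fun _ : Fin s => L) :
    letI := H23KS.endAlgebra k E
    Module.finrank k (End E) = s * s := by
  classical
  letI := H23KS.endAlgebra k E
  haveI := hE.1
  haveI : CompactSpace X := QuasiCompact.compactSpace_of_compactSpace (X ↘ Spec (CommRingCat.of k))
  let F := (Scheme.Modules.pullback q).obj E
  letI := H23KS.endAlgebra K F
  letI : Algebra k (End F) := Algebra.compHom _ (algebraMap k K)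
  haveI : IsScalarTower k K (End F) := IsScalarTower.of_algebraMap_eq fun _ => rfl
  -- endomorphisms upstairs are matrices
  letI := H23KS.endAlgebra K L
  let a' := a ≪≫ (biproduct.isoCoproduct fun _ : Fin s => L).symm
  let Ψ : Matrix (Fin s) (Fin s) K →ₗ[K] End F :=
    { toFun := fun M => a'.hom ≫ biproduct.matrix (fun i j => Formal.smulMod K L (M i j)) ≫ a'.inv
      map_add' := fun M M' => by
        have h : (biproduct.matrix fun i j => Formal.smulMod K L ((M + M') i j) :
            (⨁ fun _ : Fin s => L) ⟶ ⨁ fun _ : Fin s => L) =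
            biproduct.matrix (fun i j => Formal.smulMod K L (M i j)) + biproduct.matrix (fun i j => Formal.smulMod K L (M' i j)) := by
          refine biproduct.hom_ext' _ _ fun i => biproduct.hom_ext _ _ fun j => ?_
          simp only [Category.assoc, Preadditive.comp_add, Preadditive.add_comp, biproduct.matrix_π,
            biproduct.ι_desc]
          exact map_add (H23KS.endScalar K L) (M i j) (M' i j)
        show a'.hom ≫ _ ≫ a'.inv = _
        rw [h, Preadditive.add_comp, Preadditive.comp_add]
      map_smul' := fun c M => by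
        show a'.hom ≫ _ ≫ a'.inv = (a'.hom ≫ _ ≫ a'.inv) ≫ Formal.smulMod K F c
        rw [Category.assoc, Category.assoc, ← H23KS.smulMod_comm K a'.inv c]
        simp only [← Category.assoc]
        congr 1
        rw [Category.assoc]
        congr 1
        refine biproduct.hom_ext' _ _ fun i => biproduct.hom_ext _ _ fun j => ?_
        simp only [Category.assoc]
        rw [H23KS.smulMod_comm K (biproduct.π (fun _ : Fin s => L) j) c]
        simp only [biproduct.matrix_π, biproduct.ι_desc, biproduct.matrix_π_assoc, biproduct.ι_desc_assoc]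
        exact (map_mul (H23KS.endScalar K L) c (M i j)) }
  have hΨ : Function.Bijective Ψ := by
    haveI : Nontrivial (End L) := ⟨1, 0, fun h => hL0 ((IsZero.iff_id_eq_zero _).2 h)⟩
    refine ⟨fun M M' h => Matrix.ext fun i j => (H23KS.endScalar K L).injective ?_, fun φ => ?_⟩
    · have h2 := congrArg (fun t : F ⟶ F => biproduct.ι (fun _ : Fin s => L) i ≫ a'.inv ≫ t ≫ a'.hom ≫ biproduct.π _ j)
        (show a'.hom ≫ biproduct.matrix (fun i j => Formal.smulMod K L (M i j)) ≫ a'.inv =
          a'.hom ≫ biproduct.matrix (fun i j => Formal.smulMod K L (M' i j)) ≫ a'.inv from h)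
      simp only [Category.assoc, Iso.inv_hom_id_assoc, biproduct.matrix_π, biproduct.ι_desc] at h2
      exact h2
    · choose c hc using fun i j => H23KS.end_invertible_scalar (K := K) hL hL0
        (biproduct.ι (fun _ : Fin s => L) i ≫ a'.inv ≫ (φ : F ⟶ F) ≫ a'.hom ≫ biproduct.π _ j)
      refine ⟨c, show a'.hom ≫ biproduct.matrix _ ≫ a'.inv = (φ : F ⟶ F) from ?_⟩
      have h2 : biproduct.matrix (fun i j => Formal.smulMod K L (c i j)) = a'.inv ≫ (φ : F ⟶ F) ≫ a'.hom := by
        refine biproduct.hom_ext' _ _ fun i => biproduct.hom_ext _ _ fun j => ?_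
        simp only [Category.assoc, biproduct.matrix_π, biproduct.ι_desc]
        exact (hc i j).symm
      rw [h2]
      simp
  -- base change of endomorphisms
  let pm : End E →ₗ[k] End F :=
    { toFun := fun φ => (Scheme.Modules.pullback q).map (φ : E ⟶ E)
      map_add' := fun φ ψ => (Scheme.Modules.pullback q).map_add
      map_smul' := fun r φ => by
        show (Scheme.Modules.pullback q).map ((φ : E ⟶ E) ≫ Formal.smulMod k E r) = _
        rw [Functor.map_comp, map_smulMod_pullback hsq]
        rfl }
  let Φ := pm.liftBaseChange K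
  have hΦ : Function.Bijective Φ := by
    let b := Module.Basis.ofVectorSpace k K
    refine ⟨(injective_iff_map_eq_zero Φ).2 fun z hz => ?_, fun φ => ?_⟩
    · let eq := TensorProduct.equivFinsuppOfBasisLeft (N := End E) b
      apply eq.injective
      rw [map_zero]
      set v := eq z with hv
      have hzsum : z = ∑ i ∈ v.support, b i ⊗ₜ[k] v i :=
        (eq.symm_apply_apply z).symm.trans (TensorProduct.equivFinsuppOfBasisLeft_symm_apply b v)
      ext i
      by_contra hne
      have hi : i ∈ v.support := Finsupp.mem_support_iff.2 hne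
      let l : K →ₗ[k] k := (b.coord i).comp (LinearMap.mulLeft k (b i))
      have hl : l 1 = 1 := by simp [l]
      have h0 : ∑ j ∈ v.support, (Scheme.Modules.pullback q).map (v j : E ⟶ E) ≫
          Formal.smulMod K F (b j * (b i)⁻¹) = (Scheme.Modules.pullback q).map (0 : E ⟶ E) := by
        rw [Functor.map_zero]
        have h := congrArg (fun t : End F => (b i)⁻¹ • t) hz
        rw [hzsum, map_sum, Finset.smul_sum, smul_zero] at h
        refine Eq.trans (Finset.sum_congr rfl fun j _ => ?_) h
        show _ = (b i)⁻¹ • Φ (b j ⊗ₜ[k] v j)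
        rw [LinearMap.liftBaseChange_tmul, smul_smul, mul_comm]
        rfl
      have h1 := H23KS.eq_sum_of_map_eq hsq l hl v.support (fun j => b j * (b i)⁻¹) (fun j => (v j : E ⟶ E)) 0 h0
      have hlj : ∀ j, l (b j * (b i)⁻¹) = if j = i then 1 else 0 := fun j => by
        show b.coord i (b i * (b j * (b i)⁻¹)) = _
        rw [mul_comm (b j), ← mul_assoc, mul_inv_cancel₀ (b.ne_zero i), one_mul, Module.Basis.coord_apply, b.repr_self,
          Finsupp.single_apply]
      have h2 : (0 : End E) = ∑ j ∈ v.support, l (b j * (b i)⁻¹) • v j := h1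
      simp only [hlj, ite_smul, one_smul, zero_smul, Finset.sum_ite_eq', hi, if_true] at h2
      exact hne h2.symm
    · obtain ⟨n, c, x, hx⟩ := H23KS.exists_span hsq hE.2 (φ : F ⟶ F)
      refine ⟨∑ i, c i ⊗ₜ[k] (x i : End E), ?_⟩
      rw [map_sum]
      refine Eq.trans (Finset.sum_congr rfl fun i _ => ?_) hx.symm
      rw [LinearMap.liftBaseChange_tmul]
      rfl
  rw [← Module.finrank_baseChange (R := K), (LinearEquiv.ofBijective Φ hΦ).finrank_eq,
    ← (LinearEquiv.ofBijective Ψ hΨ).finrank_eq, Module.finrank_matrix, Module.finrank_self]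
  simp

include hsq in
/-- Nonzero endomorphisms of an isotypical indecomposable are invertible. -/
theorem isUnit_of_ne_zero {E : X.Modules} (hE : Coh.IsCoh E) (hEi : H23KS.Indec E) {L : X'.Modules}
    (hL : PicF.IsInvertible L) {r : ℕ} (a : (Scheme.Modules.pullback q).obj E ≅ ∐ fun _ : Fin r => L) (f : End E)
    (hf : f ≠ 0) : IsUnit f := by
  letI := H23KS.endAlgebra k E
  haveI := H23KS.finite_end k E hE
  have hP := H23KS.piReg_of_finite k E
  refine by_contra fun hnu => ?_
  exact (TwoSidedIdeal.mem_mk' _ _ _ _ _ _ _).1 (H23KS.one_mem_of_mem (k := k) (K := K) hsq hE L hL r a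
    (H23KS.nonunitsIdeal hEi hP) f ((TwoSidedIdeal.mem_mk' _ _ _ _ _ _ _).2 hnu) hf) isUnit_one

end Groth.Agent.H23SB
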