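import Groth.Agent.H23KS.Indec
import Groth.Agent.H16Derived.KFlat.StalkTensor
import Mathlib

/-!
# Endomorphisms of tensor products
-/

set_option autoImplicit false
set_option linter.style.haveILetI false
set_option linter.unusedSectionVars false

universe u

open CategoryTheory CategoryTheory.Limits AlgebraicGeometry Opposite TopologicalSpace
open scoped TensorProduct

noncomputable section

namespace Groth.Agent.H23SB

open Groth.Agent

variable {k : Type u} [Field k] {X : Scheme.{u}} [X.Over (Spec (CommRingCat.of k))]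

/-- The tensor product of two homomorphisms. -/
def tmap {E E' F F' : X.Modules} (φ : E ⟶ E') (ψ : F ⟶ F') : CohB1.tensorMod E F ⟶ CohB1.tensorMod E' F' :=
  ((DCoh.tensorBi (X := X)).map φ).app F ≫ ((DCoh.tensorBi (X := X)).obj E').map ψ

theorem tmap_add_left {E E' F F' : X.Modules} (φ φ' : E ⟶ E') (ψ : F ⟶ F') :
    tmap (φ + φ') ψ = tmap φ ψ + tmap φ' ψ := by
  unfold tmap
  rw [Functor.map_add]
  exact Preadditive.add_comp _ _ _ _ _ _

theorem tmap_add_right {E E' F F' : X.Modules} (φ : E ⟶ E') (ψ ψ' : F ⟶ F') :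
    tmap φ (ψ + ψ') = tmap φ ψ + tmap φ ψ' := by
  unfold tmap
  rw [Functor.map_add]
  exact Preadditive.comp_add _ _ _ _ _ _

theorem tmap_comp {E E' E'' F F' F'' : X.Modules} (φ : E ⟶ E') (φ' : E' ⟶ E'') (ψ : F ⟶ F') (ψ' : F' ⟶ F'') :
    tmap φ ψ ≫ tmap φ' ψ' = tmap (φ ≫ φ') (ψ ≫ ψ') := by
  have h := ((DCoh.tensorBi (X := X)).map φ').naturality ψ
  unfold tmap
  erw [Category.assoc, reassoc_of% h, Functor.map_comp, Functor.map_comp, NatTrans.comp_app, Category.assoc]
  rfl

theorem tmap_id (E F : X.Modules) : tmap (𝟙 E) (𝟙 F) = 𝟙 (CohB1.tensorMod E F) := by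
  unfold tmap
  erw [CategoryTheory.Functor.map_id, CategoryTheory.Functor.map_id, NatTrans.id_app]
  exact Category.comp_id _

variable (k) in
/-- The scalar in a stalk. -/
def stalkScal (x : X) (r : k) : X.presheaf.stalk x :=
  X.presheaf.germ ⊤ x trivial (LeadFF.scal (X ↘ Spec (CommRingCat.of k)) ⊤ r)

theorem stalkLin_smulMod (M : X.Modules) (r : k) (x : X) (v : M.presheaf.stalk x) :
    H06Mod.stalkLin (Formal.smulMod k M r) x v = stalkScal k x r • v := by
  obtain ⟨U, hU, a, rfl⟩ := TopCat.Presheaf.exists_germ_eq M.presheaf v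
  rw [H06Mod.stalkLin_germ, stalkScal, ← X.presheaf.germ_res_apply (homOfLE (le_top : U ≤ ⊤)) x hU,
    LeadFF.map_scal, ← H06Mod.germ_smul]
  rfl

theorem tensor_hom_ext {E F G : X.Modules} {φ ψ : CohB1.tensorMod E F ⟶ G}
    (h : ∀ (x : X) t, H06Mod.stalkLin φ x (H16Derived.KFlat.Stalk.toStalk E F x t) =
      H06Mod.stalkLin ψ x (H16Derived.KFlat.Stalk.toStalk E F x t)) : φ = ψ :=
  H23KS.hom_ext_stalkLin fun x v => by
    obtain ⟨t, rfl⟩ := (H16Derived.KFlat.Stalk.toStalk_bijective E F x).2 v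
    exact h x t

theorem tmap_smulMod_left (E F : X.Modules) (r : k) :
    tmap (Formal.smulMod k E r) (𝟙 F) = Formal.smulMod k (CohB1.tensorMod E F) r := by
  refine tensor_hom_ext fun x t => ?_
  refine (H16Derived.KFlat.Stalk.toStalk_naturality x (Formal.smulMod k E r) (𝟙 F) t).trans ?_
  rw [stalkLin_smulMod]
  refine Eq.trans (congrArg (H16Derived.KFlat.Stalk.toStalk E F x) ?_) (map_smul (H16Derived.KFlat.Stalk.toStalk E F x) (stalkScal k x r) t)
  induction t using TensorProduct.induction_on with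
  | zero => simp
  | add a b ha hb => rw [map_add, smul_add, ha, hb]
  | tmul a b => rw [TensorProduct.map_tmul, stalkLin_smulMod, H23KS.stalkLin_id, TensorProduct.smul_tmul']

theorem tmap_smulMod_right (E F : X.Modules) (r : k) :
    tmap (𝟙 E) (Formal.smulMod k F r) = Formal.smulMod k (CohB1.tensorMod E F) r := by
  refine tensor_hom_ext fun x t => ?_
  refine (H16Derived.KFlat.Stalk.toStalk_naturality x (𝟙 E) (Formal.smulMod k F r) t).trans ?_
  rw [stalkLin_smulMod]
  refine Eq.trans (congrArg (H16Derived.KFlat.Stalk.toStalk E F x) ?_) (map_smul (H16Derived.KFlat.Stalk.toStalk E F x) (stalkScal k x r) t)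
  induction t using TensorProduct.induction_on with
  | zero => simp
  | add a b ha hb => rw [map_add, smul_add, ha, hb]
  | tmul a b => rw [TensorProduct.map_tmul, stalkLin_smulMod, H23KS.stalkLin_id, TensorProduct.tmul_smul]

variable (k) in
/-- Endomorphisms of a left factor. -/
def endL (E F : X.Modules) : letI := H23KS.endAlgebra k E; letI := H23KS.endAlgebra k (CohB1.tensorMod E F);
    End E →ₐ[k] End (CohB1.tensorMod E F) :=
  letI := H23KS.endAlgebra k E
  letI := H23KS.endAlgebra k (CohB1.tensorMod E F)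
  { toFun := fun φ => tmap (φ : E ⟶ E) (𝟙 F)
    map_one' := tmap_id E F
    map_mul' := fun φ ψ => by
      show tmap ((ψ : E ⟶ E) ≫ (φ : E ⟶ E)) (𝟙 F) = tmap (ψ : E ⟶ E) (𝟙 F) ≫ tmap (φ : E ⟶ E) (𝟙 F)
      rw [tmap_comp, Category.id_comp]
    map_zero' := by
      have h := tmap_add_left (0 : E ⟶ E) 0 (𝟙 F)
      rw [add_zero] at h
      exact left_eq_add.1 h
    map_add' := fun φ ψ => tmap_add_left _ _ _
    commutes' := fun r => tmap_smulMod_left E F r }

variable (k) in
/-- Endomorphisms of a right factor. -/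
def endR (E F : X.Modules) : letI := H23KS.endAlgebra k F; letI := H23KS.endAlgebra k (CohB1.tensorMod E F);
    End F →ₐ[k] End (CohB1.tensorMod E F) :=
  letI := H23KS.endAlgebra k F
  letI := H23KS.endAlgebra k (CohB1.tensorMod E F)
  { toFun := fun ψ => tmap (𝟙 E) (ψ : F ⟶ F)
    map_one' := tmap_id E F
    map_mul' := fun φ ψ => by
      show tmap (𝟙 E) ((ψ : F ⟶ F) ≫ (φ : F ⟶ F)) = tmap (𝟙 E) (ψ : F ⟶ F) ≫ tmap (𝟙 E) (φ : F ⟶ F)
      rw [tmap_comp, Category.id_comp]
    map_zero' := by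
      have h := tmap_add_right (𝟙 E) (0 : F ⟶ F) 0
      rw [add_zero] at h
      exact left_eq_add.1 h
    map_add' := fun φ ψ => tmap_add_right _ _ _
    commutes' := fun r => tmap_smulMod_right E F r }

/-- Algebras acting on the factors act on the tensor product. -/
theorem nonempty_hom_tensor {A B : Type*} [Ring A] [Algebra k A] [Ring B] [Algebra k B] (E F : X.Modules)
    (ha : letI := H23KS.endAlgebra k E; Nonempty (A →ₐ[k] End E))
    (hb : letI := H23KS.endAlgebra k F; Nonempty (B →ₐ[k] End F)) :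
    letI := H23KS.endAlgebra k (CohB1.tensorMod E F)
    Nonempty (A ⊗[k] B →ₐ[k] End (CohB1.tensorMod E F)) := by
  letI := H23KS.endAlgebra k E
  letI := H23KS.endAlgebra k F
  letI := H23KS.endAlgebra k (CohB1.tensorMod E F)
  obtain ⟨a⟩ := ha
  obtain ⟨b⟩ := hb
  refine ⟨Algebra.TensorProduct.lift ((endL k E F).comp a) ((endR k E F).comp b) fun x y => ?_⟩
  show tmap (𝟙 E) (b y : F ⟶ F) ≫ tmap (a x : E ⟶ E) (𝟙 F) = tmap (a x : E ⟶ E) (𝟙 F) ≫ tmap (𝟙 E) (b y : F ⟶ F)
  rw [tmap_comp, tmap_comp, Category.id_comp, Category.comp_id, Category.id_comp, Category.comp_id]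

end Groth.Agent.H23SB
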