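import Groth.Agent.H23SB.Degree
import Groth.Agent.H23SB.Chart
import Groth.Agent.H23SB.TensorEnd
import Groth.Agent.H23SB.EndAlg
import Groth.Agent.H23KS.Exists
import Groth.Agent.H23Brauer.Period
import Groth.Agent.H29CSA.Split
import Groth.Agent.H10Coh.AffineAmple
import Groth.Agent.S14202
import Groth.Agent.S14204
import Groth.Agent.S13687
import Groth.Agent.S13689
import Mathlib

/-!
# The multiplicity of a twisting type is the index of a tensor power
-/

set_option autoImplicit false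
set_option linter.style.haveILetI false
set_option linter.unusedSectionVars false

universe u

open CategoryTheory CategoryTheory.Limits AlgebraicGeometry Opposite TopologicalSpace
open scoped TensorProduct

noncomputable section

namespace Groth.Agent.H23SB

open Groth.Agent

attribute [local instance] Abelian.hasFiniteBiproducts

variable {k : Type u} [Field k] {K : Type u} [Field K] [Algebra k K] {X : Scheme.{u}}
  {f : X ⟶ Spec (CommRingCat.of k)}

/-- Endomorphisms of a power, as matrices. -/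
def endPowEquiv {C : Type*} [Category C] [Preadditive C] [HasFiniteBiproducts C] {E W : C} {μ : ℕ}
    (g : E ≅ ⨁ fun _ : Fin μ => W) : End E ≃+* Matrix (Fin μ) (Fin μ) (End W) where
  toFun x := Matrix.of fun i j => End.of (biproduct.ι (fun _ : Fin μ => W) j ≫ g.inv ≫ End.asHom x ≫ g.hom ≫ biproduct.π _ i)
  invFun M := End.of (g.hom ≫ biproduct.matrix (fun j i => End.asHom (M i j)) ≫ g.inv)
  left_inv x := by
    have h : biproduct.matrix (fun j i => biproduct.ι (fun _ : Fin μ => W) j ≫ g.inv ≫ End.asHom x ≫ g.hom ≫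
        biproduct.π _ i) = g.inv ≫ End.asHom x ≫ g.hom := by
      refine biproduct.hom_ext' _ _ fun j => biproduct.hom_ext _ _ fun i => ?_
      simp only [Category.assoc, biproduct.matrix_π, biproduct.ι_desc]
    show g.hom ≫ biproduct.matrix (fun j i => biproduct.ι (fun _ : Fin μ => W) j ≫ g.inv ≫ End.asHom x ≫ g.hom ≫
        biproduct.π _ i) ≫ g.inv = End.asHom x
    rw [h]
    simp
  right_inv M := by
    ext i j
    show biproduct.ι (fun _ : Fin μ => W) j ≫ g.inv ≫
      (g.hom ≫ biproduct.matrix (fun j i => End.asHom (M i j)) ≫ g.inv) ≫ g.hom ≫ biproduct.π _ i = End.asHom (M i j)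
    simp [Category.assoc]
  map_mul' x y := by
    ext i j
    rw [Matrix.mul_apply]
    show biproduct.ι (fun _ : Fin μ => W) j ≫ g.inv ≫ (End.asHom y ≫ End.asHom x) ≫ g.hom ≫ biproduct.π _ i =
      ∑ t, (biproduct.ι (fun _ : Fin μ => W) j ≫ g.inv ≫ End.asHom y ≫ g.hom ≫ biproduct.π _ t) ≫
        (biproduct.ι (fun _ : Fin μ => W) t ≫ g.inv ≫ End.asHom x ≫ g.hom ≫ biproduct.π _ i)
    simp only [Category.assoc]
    rw [← Preadditive.comp_sum, ← Preadditive.comp_sum, ← Preadditive.comp_sum, ← Preadditive.comp_sum]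
    simp only [← Category.assoc (biproduct.π (fun _ : Fin μ => W) _)]
    rw [← Preadditive.sum_comp, biproduct.total, Category.id_comp, Iso.hom_inv_id_assoc]
  map_add' x y := by
    ext i j
    show biproduct.ι (fun _ : Fin μ => W) j ≫ g.inv ≫ (End.asHom x + End.asHom y) ≫ g.hom ≫ biproduct.π _ i =
      biproduct.ι (fun _ : Fin μ => W) j ≫ g.inv ≫ End.asHom x ≫ g.hom ≫ biproduct.π _ i +
        biproduct.ι (fun _ : Fin μ => W) j ≫ g.inv ≫ End.asHom y ≫ g.hom ≫ biproduct.π _ i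
    simp only [Preadditive.add_comp, Preadditive.comp_add]

theorem endPowEquiv_scalar {C : Type*} [Category C] [Preadditive C] [HasFiniteBiproducts C] {E W : C} {μ : ℕ}
    (g : E ≅ ⨁ fun _ : Fin μ => W) (s : ∀ M : C, End M)
    (hs : ∀ {M M' : C} (φ : M ⟶ M'), End.asHom (s M) ≫ φ = φ ≫ End.asHom (s M')) (i j : Fin μ) :
    endPowEquiv g (s E) i j = if i = j then s W else 0 := by
  show End.of (biproduct.ι (fun _ : Fin μ => W) j ≫ g.inv ≫ End.asHom (s E) ≫ g.hom ≫ biproduct.π _ i) = _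
  rw [hs (g.hom ≫ biproduct.π (fun _ : Fin μ => W) i), Category.assoc, Iso.inv_hom_id_assoc]
  by_cases h : i = j
  · subst h
    rw [if_pos rfl, biproduct.ι_π_self_assoc]
  · rw [if_neg h, biproduct.ι_π_ne_assoc _ (Ne.symm h), zero_comp]

/-- Endomorphisms of a power are matrices over the scalars. -/
theorem nonempty_end_pow [X.Over (Spec (CommRingCat.of k))] {E W : X.Modules} {μ : ℕ}
    (g : E ≅ ∐ fun _ : Fin μ => W) :
    letI := H23KS.endAlgebra k E
    letI := H23KS.endAlgebra k W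
    Nonempty (End E ≃ₐ[k] Matrix (Fin μ) (Fin μ) (End W)) := by
  classical
  letI := H23KS.endAlgebra k E
  letI := H23KS.endAlgebra k W
  refine ⟨AlgEquiv.ofRingEquiv (f := endPowEquiv (g ≪≫ (biproduct.isoCoproduct fun _ : Fin μ => W).symm))
    fun r => Matrix.ext fun i j => ?_⟩
  rw [Matrix.algebraMap_matrix_apply]
  exact endPowEquiv_scalar _ (fun M => H23KS.endScalar k M r) (fun φ => H23KS.smulMod_comm k φ r) i j

variable (f K) in
theorem isPullback_bc :
    letI : X.Over (Spec (CommRingCat.of k)) := ⟨f⟩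
    letI : (BrSev.bc f K).Over (Spec (CommRingCat.of K)) := ⟨BrSev.bcTo f K⟩
    IsPullback (BrSev.proj f K) (BrSev.bc f K ↘ Spec (CommRingCat.of K)) (X ↘ Spec (CommRingCat.of k))
      (Spec.map (CommRingCat.ofHom (algebraMap k K))) :=
  IsPullback.of_hasPullback _ _

variable {N : ℕ} (e : BrSev.Splitting f K N)

include e in
theorem isIntegral_bc : IsIntegral (BrSev.bc f K) := by
  haveI := LeadPic.PnRel.isIntegral_projSpace N K
  haveI : Nonempty (BrSev.bc f K) := ⟨e.iso.inv (LeadPic.Pn.η N K)⟩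
  exact isIntegral_of_isOpenImmersion e.iso.hom

theorem not_isZero_twist (d : ℤ) : ¬ IsZero (e.twist d) := by
  haveI := isIntegral_bc e
  exact (H23KS.indec_invertible (H23KS.Twist.isInvertible_twist e d)).1

/-- On `P⁰` all twists are trivial. -/
theorem nonempty_twist_iso_zero (e : BrSev.Splitting f K 0) (d : ℤ) : Nonempty (e.twist d ≅ e.twist 0) := by
  have htop : chart (K := K) (0 : Fin 1) = ⊤ := by
    refine le_antisymm le_top fun x _ => ?_
    obtain ⟨i, hi⟩ := Opens.mem_iSup.1 ((H11Proj.ProjSpace.iSup_basicOpen (n := 0) (R := K)).ge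
      (trivial : x ∈ (⊤ : (Proj (CohB1.polyGrading 0 K)).Opens)))
    rwa [Subsingleton.elim (α := Fin 1) i 0] at hi
  have htriv : ∀ d : ℤ, Nonempty (Twist.twistProjSpace 0 K d ≅ Coh.structureModule (CohB1.ProjSpace 0 K)) := by
    intro d
    let M := GrMod.tilde (CohB1.polyGrading 0 K) (CohB1.polyGrading 0 K) d
    let g₀ : Γ(M, ⊤) := M.presheaf.map (eqToHom htop.symm).op (gen K d (0 : Fin 1))
    haveI := H11Tilde.isIso_homOfGlobal M g₀ fun W => by
      have h := (isGen_gen (K := K) d (0 : Fin 1)).bijective (htop.symm ▸ le_top : W ≤ chart (K := K) (0 : Fin 1))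
      refine Eq.mpr (congrArg Function.Bijective (funext fun r => ?_)) h
      show r • _ = r • _
      congr 1
      try exact congr($(congr(ConcreteCategory.hom $((M.presheaf.map_comp _ _).symm))) _)
    exact ⟨(asIso (H11Tilde.homOfGlobal M g₀)).symm⟩
  obtain ⟨a⟩ := htriv d
  obtain ⟨b⟩ := htriv 0
  exact ⟨(Scheme.Modules.pullback e.iso.hom).mapIso (a ≪≫ b.symm)⟩

variable [IsProper f] [IsAlgClosure k K] {A : Type u} [Ring A] [Algebra k A] [Algebra.IsCentral k A] [IsSimpleRing A]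

/-- The tautological module of a Severi–Brauer scheme. -/
theorem exists_taut (hA : Module.finrank k A = (N + 1) * (N + 1))
    (hX : BrSev.IsSBOf k A ((N + 1) * (N + 1) - (N + 1)) f) :
    letI : X.Over (Spec (CommRingCat.of k)) := ⟨f⟩
    ∃ (E : X.Modules) (d : ℤ), FlatMod.IsFinLocFree E ∧ IsUnit d ∧ BrSev.IsTwPow e d (N + 1) E ∧
      (letI := H23KS.endAlgebra k E; Nonempty (A →ₐ[k] End E)) := by
  obtain ⟨str⟩ := hX
  letI : X.Over (Spec (CommRingCat.of k)) := ⟨f⟩
  letI : (BrSev.bc f K).Over (Spec (CommRingCat.of K)) := ⟨BrSev.bcTo f K⟩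
  haveI : IsAlgClosed K := IsAlgClosure.isAlgClosed k
  haveI := isIntegral_bc e
  haveI : IsProper (BrSev.bc f K ↘ Spec (CommRingCat.of K)) :=
    inferInstanceAs (IsProper (pullback.snd _ _))
  haveI : IsLocallyNoetherian (BrSev.bc f K) :=
    LocallyOfFiniteType.isLocallyNoetherian (BrSev.bc f K ↘ Spec (CommRingCat.of K))
  haveI : Module.Finite k A := FiniteDimensional.of_finrank_pos (by rw [hA]; positivity)
  obtain ⟨n', hn', ⟨eA'⟩⟩ := H29CSA.exists_splits_of_isAlgClosed (k := k) (A := A) K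
  obtain rfl : n' = N + 1 := by
    have h := eA'.toLinearEquiv.finrank_eq
    rw [Module.finrank_baseChange, hA, Module.finrank_matrix, Module.finrank_self, Fintype.card_fin, mul_one] at h
    exact (Nat.mul_self_inj.1 h).symm
  let b := Module.finBasis k A
  have hsq := isPullback_bc K f
  obtain ⟨P, ι, p, hιp, hpι, ⟨gP⟩⟩ := exists_corner b str hsq eA'
  have hP := isInvertible_corner b str hA ι p hιp gP
  obtain ⟨d₀, ⟨θ⟩⟩ := H23KS.Twist.exists_iso_twist e hP
  rcases Nat.eq_zero_or_pos N with rfl | hN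
  · obtain ⟨a₁⟩ := nonempty_twist_iso_zero e d₀
    obtain ⟨a₂⟩ := nonempty_twist_iso_zero e 1
    exact ⟨V b str, 1, isFinLocFree_V b str, isUnit_one,
      ⟨gP ≪≫ Sigma.mapIso fun _ => θ ≪≫ a₁ ≪≫ a₂.symm⟩, ⟨actHom b str⟩⟩
  obtain ⟨D, g, ρ, hD, hg, hρ⟩ := exists_chartGens (N := N) (K := K) e.iso.hom (d := d₀) (P := P) θ.symm
  have hd : d₀ ∣ 1 := by
    have h := degree_dvd_one b str hsq eA' ι p hpι (by omega) D hD g hg ρ d₀.toNat (-d₀).toNat hρ
    rwa [Int.toNat_sub_toNat_neg] at h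
  exact ⟨V b str, d₀, isFinLocFree_V b str, isUnit_of_dvd_one hd,
    ⟨gP ≪≫ Sigma.mapIso fun _ => θ⟩, ⟨actHom b str⟩⟩

/-- Tensor powers act on modules of the corresponding types. -/
theorem exists_tensor_power {E : X.Modules} {d : ℤ} {n : ℕ} (hE : FlatMod.IsFinLocFree E)
    (hEt : BrSev.IsTwPow e d n E) [Module.Finite k A]
    (ha : letI : X.Over (Spec (CommRingCat.of k)) := ⟨f⟩; letI := H23KS.endAlgebra k E; Nonempty (A →ₐ[k] End E))
    (m : ℕ) :
    letI : X.Over (Spec (CommRingCat.of k)) := ⟨f⟩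
    ∃ M : X.Modules, FlatMod.IsFinLocFree M ∧ BrSev.IsTwPow e (d * m) (n ^ m) M ∧
      (letI := H23KS.endAlgebra k M; Nonempty (CSAGal.tpow k A m →ₐ[k] End M)) := by
  letI : X.Over (Spec (CommRingCat.of k)) := ⟨f⟩
  induction m with
  | zero =>
    letI := H23KS.endAlgebra k (Coh.structureModule X)
    have h0 := H23Brauer.finrank_tpow (k := k) (A := A) 0
    rw [pow_zero] at h0
    haveI : Nontrivial (CSAGal.tpow k A 0) := Module.nontrivial_of_finrank_pos (R := k) (by rw [h0]; norm_num)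
    let e0 : k ≃ₐ[k] CSAGal.tpow k A 0 :=
      H29CSA.equivOfFinrankEq (Algebra.ofId k _) (by rw [Module.finrank_self, h0])
    obtain ⟨z⟩ := (H10Coh.Stab.isTwistFamily_projSpace N K).zero
    refine ⟨Coh.structureModule X, H23Para.isFinLocFree_of_isInvertible (H22Alg.PnDeg0.isInvertible_structure X),
      ⟨H16Derived.KFlat.Stalk.structurePullbackIso (BrSev.proj f K) ≪≫ ?_⟩,
      ⟨(Algebra.ofId k _).comp e0.symm.toAlgHom⟩⟩
    exact (H16Derived.KFlat.Stalk.structurePullbackIso e.iso.hom).symm ≪≫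
      (Scheme.Modules.pullback e.iso.hom).mapIso z.symm ≪≫
      eqToIso (congrArg e.twist (show (0 : ℤ) = d * ((0 : ℕ) : ℤ) by simp)) ≪≫
      (coproductUniqueIso fun _ : Fin 1 => e.twist (d * ((0 : ℕ) : ℤ))).symm
  | succ m ih =>
    obtain ⟨M, hM, hMt, hm⟩ := ih
    letI := H23KS.endAlgebra k (CohB1.tensorMod M E)
    obtain ⟨φ⟩ := nonempty_hom_tensor M E hm ha
    obtain ⟨E1⟩ := H23Brauer.nonempty_tpow_add (k := k) A m 1
    obtain ⟨E2⟩ := H23Brauer.nonempty_tpow_one (k := k) (A := A)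
    refine ⟨CohB1.tensorMod M E, H10Coh.Tw.isFinLocFree_tensorMod hM hE, ?_,
      ⟨φ.comp (E1.trans (Algebra.TensorProduct.congr AlgEquiv.refl E2.symm)).toAlgHom⟩⟩
    rw [Nat.cast_succ, mul_add_one, pow_succ]
    exact S14204.result k f N K e _ _ _ _ M E hMt hEt

theorem index_eq_of_type {M W : X.Modules} {t : ℤ} {s r : ℕ} {B : Type u} [Ring B]
    [Algebra k B] [IsSimpleRing B] (hB : Module.finrank k B = s * s) (hs : 0 < s)
    (hM : FlatMod.IsFinLocFree M) (hMt : BrSev.IsTwPow e t s M)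
    (hb : letI : X.Over (Spec (CommRingCat.of k)) := ⟨f⟩; letI := H23KS.endAlgebra k M; Nonempty (B →ₐ[k] End M))
    (hW : FlatMod.IsFinLocFree W) (hWi : H23KS.Indec W) (hr : 0 < r) (hWt : BrSev.IsTwPow e t r W) :
    CSAGal.IsIndex k B r := by
  classical
  letI : X.Over (Spec (CommRingCat.of k)) := ⟨f⟩
  letI : (BrSev.bc f K).Over (Spec (CommRingCat.of K)) := ⟨BrSev.bcTo f K⟩
  haveI : IsAlgClosed K := IsAlgClosure.isAlgClosed k
  haveI := isIntegral_bc e
  haveI : IsProper (X ↘ Spec (CommRingCat.of k)) := ‹IsProper f›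
  haveI : IsProper (BrSev.bc f K ↘ Spec (CommRingCat.of K)) :=
    inferInstanceAs (IsProper (pullback.snd _ _))
  have hsq := isPullback_bc K f
  have hL := H23KS.Twist.isInvertible_twist e t
  have hL0 := not_isZero_twist e t
  have hMc := H16Derived.KFlat.Stalk.isCoh_of_isFinLocFree hM
  have hWc := H16Derived.KFlat.Stalk.isCoh_of_isFinLocFree hW
  obtain ⟨aM⟩ := hMt
  obtain ⟨aW⟩ := hWt
  letI := H23KS.endAlgebra k M
  letI := H23KS.endAlgebra k W
  obtain ⟨φ⟩ := hb
  have hdM := finrank_end (k := k) hsq hMc hL hL0 aM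
  have hdW := finrank_end (k := k) hsq hWc hL hL0 aW
  haveI : Nontrivial (End M) := Module.nontrivial_of_finrank_pos (R := k) (by rw [hdM]; positivity)
  haveI : Module.Finite k B := FiniteDimensional.of_finrank_pos (by rw [hB]; positivity)
  haveI := H23KS.finite_end k M hMc
  let eB : B ≃ₐ[k] End M := H29CSA.equivOfFinrankEq φ (hB.trans hdM.symm)
  have hM0 : ¬ IsZero M := fun hz => one_ne_zero (α := End M) ((IsZero.iff_id_eq_zero _).1 hz)
  obtain ⟨⟨G, μ, hG, hGi, ⟨aG⟩⟩, -⟩ := S13689.result k f K M hM hM0 (e.twist t) hL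
    (H23KS.indec_invertible hL) s ⟨aM⟩
  -- `M^r` and `W^s` agree upstairs
  haveI : PreservesColimitsOfSize.{0, 0} (Scheme.Modules.pullback (BrSev.proj f K)) :=
    (Scheme.Modules.pullbackPushforwardAdjunction _).leftAdjoint_preservesColimits
  let F₁ := ∐ fun _ : Fin r => M
  let F₂ := ∐ fun _ : Fin s => W
  have hc₁ : Coh.IsCoh F₁ := H16Derived.KFlat.Stalk.isCoh_of_isFinLocFree
    (H16Derived.KFlat.Stalk.isFinLocFree_sigma _ fun _ => hM)
  have hc₂ : Coh.IsCoh F₂ := H16Derived.KFlat.Stalk.isCoh_of_isFinLocFree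
    (H16Derived.KFlat.Stalk.isFinLocFree_sigma _ fun _ => hW)
  obtain ⟨ψ⟩ := S13687.result k f K F₁ F₂ hc₁ hc₂
    (PreservesCoproduct.iso _ _ ≪≫ Sigma.mapIso (fun _ => aM) ≪≫ H23KS.sigmaSwap (e.twist t) s r ≪≫
      (Sigma.mapIso fun _ => aW).symm ≪≫ (PreservesCoproduct.iso _ _).symm)
  letI := H23KS.endAlgebra k F₁
  haveI := H23KS.finite_end k F₁ hc₁
  obtain ⟨σ, hσ⟩ := H23KS.uniqueness k F₁ (fun _ : Fin (r * μ) => G) (fun _ : Fin s => W) (fun _ => hGi)
    (fun _ => hWi) (Sigma.mapIso (fun _ => aG) ≪≫ H23KS.sumPow G r μ ≪≫ (biproduct.isoCoproduct _).symm)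
    (ψ ≪≫ (biproduct.isoCoproduct _).symm)
  have hμ : 0 < μ := Nat.pos_of_ne_zero fun h => by
    have := Fintype.card_congr σ
    simp [h] at this
    omega
  obtain ⟨gG⟩ := hσ ⟨0, Nat.mul_pos hr hμ⟩
  obtain ⟨Φ⟩ := nonempty_end_pow (k := k) (aG ≪≫ Sigma.mapIso fun _ => gG)
  haveI : Nontrivial (End W) := Module.nontrivial_of_finrank_pos (R := k) (by rw [hdW]; positivity)
  letI : DivisionRing (End W) := DivisionRing.ofIsUnitOrEqZero fun x =>
    (em (x = 0)).symm.imp_left fun hx => isUnit_of_ne_zero (k := k) hsq hWc hWi hL aW x hx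
  exact ⟨hr, μ, End W, inferInstance, inferInstance, hμ, hdW.trans (sq r).symm, ⟨eB.trans Φ⟩⟩

/-- The multiplicity of a twisting type is the index of the corresponding tensor power. -/
theorem isIndex_multiplicity (hA : Module.finrank k A = (N + 1) * (N + 1))
    (hX : BrSev.IsSBOf k A ((N + 1) * (N + 1) - (N + 1)) f) {W : X.Modules} (hW : FlatMod.IsFinLocFree W)
    (hWi : H23KS.Indec W) {j : ℤ} {r : ℕ} (hr : 0 < r) (hWt : BrSev.IsTwPow e j r W) :
    CSAGal.IsIndex k (CSAGal.tpow k A j.natAbs) r := by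
  haveI : Module.Finite k A := FiniteDimensional.of_finrank_pos (by rw [hA]; positivity)
  obtain ⟨E, d, hE, hd, hEt, ha⟩ := exists_taut e hA hX
  obtain ⟨M, hM, hMt, hm⟩ := exists_tensor_power e hE hEt ha j.natAbs
  obtain ⟨hc, hsimp, hfin⟩ := H23Brauer.csa_tpow (k := k) A j.natAbs
  have hB : Module.finrank k (CSAGal.tpow k A j.natAbs) = (N + 1) ^ j.natAbs * (N + 1) ^ j.natAbs := by
    rw [H23Brauer.finrank_tpow, hA, mul_pow]
  obtain ⟨W', r', hW', hW'i, hr', hW't⟩ := H23KS.Exists.exists_indec_twPow e (d * j.natAbs)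
  have h := index_eq_of_type e hB (Nat.pow_pos (Nat.succ_pos N)) hM hMt hm hW' hW'i hr' hW't
  have hj : d * (j.natAbs : ℤ) = j ∨ d * (j.natAbs : ℤ) = -j := by
    rcases Int.isUnit_iff.1 hd with rfl | rfl
    · omega
    · omega
  rcases hj with hj | hj
  · rw [hj] at hW't
    letI : X.Over (Spec (CommRingCat.of k)) := ⟨f⟩
    letI : (BrSev.bc f K).Over (Spec (CommRingCat.of K)) := ⟨BrSev.bcTo f K⟩
    haveI : IsProper (X ↘ Spec (CommRingCat.of k)) := ‹IsProper f›
    haveI : IsProper (BrSev.bc f K ↘ Spec (CommRingCat.of K)) :=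
      inferInstanceAs (IsProper (pullback.snd _ _))
    haveI := isIntegral_bc e
    obtain ⟨aW⟩ := hWt
    obtain ⟨aW'⟩ := hW't
    rwa [H23KS.multiplicity_eq (isPullback_bc K f) (H16Derived.KFlat.Stalk.isCoh_of_isFinLocFree hW)
      (H16Derived.KFlat.Stalk.isCoh_of_isFinLocFree hW') hWi hW'i _
      (H23KS.indec_invertible (H23KS.Twist.isInvertible_twist e j))
      (H16Derived.KFlat.Stalk.isCoh_of_isFinLocFree (H16Derived.KFlat.Stalk.isFinLocFree_pullback _ hW)) r r' aW aW']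
  · rw [hj] at hW't
    rwa [S14202.result k f N K e j W W' hW hW' hWi hW'i r r' hr hr' hWt hW't]

end Groth.Agent.H23SB
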