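import Groth.Agent.H23SB.Corner
import Groth.Agent.H02CA.SB.Aut
import Mathlib

/-!
# The line of a point over a splitting field

The line of a point of the split Severi–Brauer scheme is spanned by the zeroth row of a local generator of the corner.
-/

set_option autoImplicit false
set_option linter.style.haveILetI false
set_option linter.unusedSectionVars false

universe u

open CategoryTheory CategoryTheory.Limits AlgebraicGeometry Opposite TopologicalSpace
open scoped TensorProduct

noncomputable section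

namespace Groth.Agent.H23SB

open Groth.Agent Groth.Agent.H02CA.SB

attribute [local instance] alg Abelian.hasFiniteBiproducts

variable {k : Type u} [Field k] {A : Type u} [Ring A] [Algebra k A] [Module.Finite k A] {n : ℕ} [NeZero n]
  {X : Scheme.{u}} [X.Over (Spec (CommRingCat.of k))] {m : ℕ} (b : Module.Basis (Fin m) k A)
  (str : BrSev.SBStr k A (n * n - n) (X ↘ Spec (CommRingCat.of k)))
  {K : Type u} [Field K] [Algebra k K] {X' : Scheme.{u}} [X'.Over (Spec (CommRingCat.of K))] {q : X' ⟶ X}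
  (hsq : IsPullback q (X' ↘ Spec (CommRingCat.of K)) (X ↘ Spec (CommRingCat.of k))
    (Spec.map (CommRingCat.ofHom (algebraMap k K))))
  (eA : K ⊗[k] A ≃ₐ[K] Matrix (Fin n) (Fin n) K)

section Points

variable {R S : Type u} [CommRing R] [Algebra k R] [CommRing S] [Algebra k S]

include hsq in
theorem comp_q {τ : K →ₐ[k] R} {y : Spec (CommRingCat.of R) ⟶ X'}
    (hy : y ≫ (X' ↘ Spec (CommRingCat.of K)) = Spec.map (CommRingCat.ofHom (τ : K →+* R))) :
    (y ≫ q) ≫ (X ↘ Spec (CommRingCat.of k)) = Spec.map (CommRingCat.ofHom (algebraMap k R)) := by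
  rw [Category.assoc, hsq.w, ← Category.assoc, hy, ← Spec.map_comp, ← CommRingCat.ofHom_comp, τ.comp_algebraMap]

include hsq in
/-- The point downstairs. -/
def ptOf {τ : K →ₐ[k] R} {y : Spec (CommRingCat.of R) ⟶ X'}
    (hy : y ≫ (X' ↘ Spec (CommRingCat.of K)) = Spec.map (CommRingCat.ofHom (τ : K →+* R))) :
    BrSev.Pts (X ↘ Spec (CommRingCat.of k)) R :=
  ⟨y ≫ q, comp_q hsq hy⟩

include hsq in
/-- The line of a point. -/
def lineY {τ : K →ₐ[k] R} {y : Spec (CommRingCat.of R) ⟶ X'}
    (hy : y ≫ (X' ↘ Spec (CommRingCat.of K)) = Spec.map (CommRingCat.ofHom (τ : K →+* R))) :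
    Submodule R (Fin n → R) :=
  lineOf eA τ (str.bij R (ptOf hsq hy)).1.toSubmodule

include hsq in
theorem isLine_lineY {τ : K →ₐ[k] R} {y : Spec (CommRingCat.of R) ⟶ X'}
    (hy : y ≫ (X' ↘ Spec (CommRingCat.of K)) = Spec.map (CommRingCat.ofHom (τ : K →+* R))) :
    IsLine (lineY str hsq eA hy) :=
  isLine_lineOf eA τ _

include hsq in
theorem comp_map_eq (φ : R →ₐ[k] S) {τ : K →ₐ[k] R} {y : Spec (CommRingCat.of R) ⟶ X'}
    (hy : y ≫ (X' ↘ Spec (CommRingCat.of K)) = Spec.map (CommRingCat.ofHom (τ : K →+* R))) :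
    (Spec.map (CommRingCat.ofHom (φ : R →+* S)) ≫ y) ≫ (X' ↘ Spec (CommRingCat.of K)) =
      Spec.map (CommRingCat.ofHom ((φ.comp τ : K →ₐ[k] S) : K →+* S)) := by
  rw [Category.assoc, hy, ← Spec.map_comp, ← CommRingCat.ofHom_comp]
  try rfl

include hsq in
theorem lineY_map (φ : R →ₐ[k] S) {τ : K →ₐ[k] R} {y : Spec (CommRingCat.of R) ⟶ X'}
    (hy : y ≫ (X' ↘ Spec (CommRingCat.of K)) = Spec.map (CommRingCat.ofHom (τ : K →+* R))) :
    lineY str hsq eA (comp_map_eq hsq φ hy) = mapL φ.toRingHom (lineY str hsq eA hy) := by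
  rw [lineY, lineY, ← lineOf_mapSB, ← bij_map str]
  congr 4

include hsq in
theorem lineY_injective {τ : K →ₐ[k] R} {y y' : Spec (CommRingCat.of R) ⟶ X'}
    (hy : y ≫ (X' ↘ Spec (CommRingCat.of K)) = Spec.map (CommRingCat.ofHom (τ : K →+* R)))
    (hy' : y' ≫ (X' ↘ Spec (CommRingCat.of K)) = Spec.map (CommRingCat.ofHom (τ : K →+* R)))
    (h : lineY str hsq eA hy = lineY str hsq eA hy') : y = y' :=
  hsq.hom_ext (congrArg Subtype.val ((str.bij R).injective (lineOf_injective eA τ h))) (hy.trans hy'.symm)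

include hsq in
theorem exists_point (τ : K →ₐ[k] R) {L : Submodule R (Fin n → R)} (hL : IsLine L) :
    ∃ (y : Spec (CommRingCat.of R) ⟶ X')
      (hy : y ≫ (X' ↘ Spec (CommRingCat.of K)) = Spec.map (CommRingCat.ofHom (τ : K →+* R))),
      lineY str hsq eA hy = L := by
  let g := (str.bij R).symm (idealSB eA τ L hL)
  have hw : g.1 ≫ (X ↘ Spec (CommRingCat.of k)) =
      Spec.map (CommRingCat.ofHom (τ : K →+* R)) ≫ Spec.map (CommRingCat.ofHom (algebraMap k K)) := by
    rw [g.2, ← Spec.map_comp, ← CommRingCat.ofHom_comp, τ.comp_algebraMap]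
  refine ⟨hsq.lift g.1 _ hw, hsq.lift_snd _ _ _, ?_⟩
  rw [lineY, show ptOf hsq (hsq.lift_snd g.1 _ hw) = g from Subtype.ext (hsq.lift_fst _ _ _),
    Equiv.apply_symm_apply, lineOf_idealSB]

end Points

theorem mapA_comp {R S T : Type u} [CommRing R] [Algebra k R] [CommRing S] [Algebra k S] [CommRing T] [Algebra k T]
    (φ : R →ₐ[k] S) (ψ : S →ₐ[k] T) (x : R ⊗[k] A) : mapA A (ψ.comp φ) x = mapA A ψ (mapA A φ x) := by
  induction x using TensorProduct.induction_on with
  | zero => simp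
  | add a b ha hb => rw [map_add, map_add, map_add, ha, hb]
  | tmul r a => rfl

variable (k K) in
theorem fromSpec_comp' {W : X'.Opens} (hW : IsAffineOpen W) :
    letI := alg' k K W
    hW.fromSpec ≫ (X' ↘ Spec (CommRingCat.of K)) =
      Spec.map (CommRingCat.ofHom ((τW k W : K →ₐ[k] Γ(X', W)) : K →+* Γ(X', W))) :=
  fromSpec_comp hW

variable (k K) in
/-- Restriction upstairs as algebra maps. -/
def resAlg' {W W' : X'.Opens} (h : W' ≤ W) :
    letI := alg' k K W; letI := alg' k K W'; Γ(X', W) →ₐ[k] Γ(X', W') :=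
  letI := alg' k K W
  letI := alg' k K W'
  { (X'.presheaf.map (homOfLE h).op).hom with
    commutes' := fun a => LeadFF.map_scal (X' ↘ Spec (CommRingCat.of K)) h (algebraMap k K a) }

theorem resAlg'_comp_τW {W W' : X'.Opens} (h : W' ≤ W) :
    letI := alg' k K W; letI := alg' k K W'
    (resAlg' k K h).comp (τW k W) = (τW k W' : K →ₐ[k] Γ(X', W')) := by
  letI := alg' k K W
  letI := alg' k K W'
  exact AlgHom.ext fun a => LeadFF.map_scal (X' ↘ Spec (CommRingCat.of K)) h a

section Corner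

variable {P : X'.Modules} (ι : P ⟶ (Scheme.Modules.pullback q).obj (V b str))

/-- The zeroth row of a section of the corner. -/
def r0 (W : X'.Opens) : Γ(P, W) →ₗ[Γ(X', W)] (Fin n → Γ(X', W)) where
  toFun g := matL b str eA W (ι.app W g) 0
  map_add' g g' := by rw [map_add, map_add]; rfl
  map_smul' r g := by rw [Scheme.Modules.Hom.app_smul, map_smul]; rfl

theorem r0_res {W W' : X'.Opens} (h : W' ≤ W) (g : Γ(P, W)) :
    r0 b str eA ι W' (P.presheaf.map (homOfLE h).op g) = ⇑(X'.presheaf.map (homOfLE h).op) ∘ r0 b str eA ι W g := by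
  show matL b str eA W' (ι.app W' _) 0 = _
  rw [H11Tilde.app_map_apply ι h, matL_res]
  rfl

variable (p : (Scheme.Modules.pullback q).obj (V b str) ⟶ P)
  (hpι : p ≫ ι = (letI := H23KS.endAlgebra K ((Scheme.Modules.pullback q).obj (V b str));
    rhoM b str hsq (eA.symm (Matrix.single 0 0 1))))

include hsq hpι in
/-- The line of a small affine open. -/
theorem lineY_affine [IsIntegral X'] {U : X.Opens} (hU : IsAffineOpen U) {W : X'.Opens} (hW : IsAffineOpen W)
    (hne : Nonempty W) (h : W ≤ q ⁻¹ᵁ U) {g : Γ(P, W)} (hg : Function.Surjective fun r : Γ(X', W) => r • g) :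
    letI := alg' k K W
    lineY str hsq eA (fromSpec_comp' k K hW) = Submodule.span Γ(X', W) {r0 b str eA ι W g} := by
  letI := alg' k K W
  letI := alg' k K (q ⁻¹ᵁ U)
  let φ : Γ(X, U) →ₐ[k] Γ(X', W) := (resAlg' k K h).comp (qAlg hsq U)
  have hpt : ptOf hsq (fromSpec_comp' k K hW) = BrSev.Pts.map _ φ (pt k hU) := by
    refine Subtype.ext ?_
    show hW.fromSpec ≫ q = Spec.map (CommRingCat.ofHom (φ : Γ(X, U) →+* Γ(X', W))) ≫ hU.fromSpec
    exact (IsAffineOpen.SpecMap_appLE_fromSpec q hU hW h).symm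
  have hL := isLine_lineY str hsq eA (fromSpec_comp' k K hW)
  have hle : lineY str hsq eA (fromSpec_comp' k K hW) ≤ Submodule.span Γ(X', W) {r0 b str eA ι W g} := by
    rw [lineY, hpt, str.natural, map_eq_span, lineOf, Submodule.map_span, Submodule.span_le]
    rintro _ ⟨_, ⟨x, hx, rfl⟩, rfl⟩
    let v := (secEquiv b str hU).symm ⟨x, hx⟩
    have hv : ofF b U v.1 = x := congrArg Subtype.val ((secEquiv b str hU).apply_symm_apply ⟨x, hx⟩)
    let y := ((Scheme.Modules.pullback q).obj (V b str)).presheaf.map (homOfLE h).op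
      (OmegaSh.pullSect q (V b str) U v)
    have hy : matL b str eA W y = psiHom eA (τW k W) (mapA A φ x) := by
      rw [matL_res, matL_pullSect b str hsq eA, hv, ← resAlg'_comp_τW (k := k) (K := K) h,
        show mapA A φ x = mapA A (resAlg' k K h) (mapA A (qAlg hsq U) x) from mapA_comp _ _ x,
        psiHom_nat]
      rfl
    obtain ⟨c, hc⟩ := hg (p.app W y)
    refine Submodule.mem_span_singleton.2 ⟨c, ?_⟩
    rw [← map_smul, show c • g = p.app W y from hc, row_apply, ← hy]
    show matL b str eA W (ι.app W (p.app W y)) 0 = _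
    have h2 : ι.app W (p.app W y) = Scheme.Modules.Hom.app
        (letI := H23KS.endAlgebra K ((Scheme.Modules.pullback q).obj (V b str));
          rhoM b str hsq (eA.symm (Matrix.single 0 0 1))) W y :=
      congr($(congr(Scheme.Modules.Hom.app $hpι W)) y)
    rw [h2, matL_rhoM b str hsq eA, AlgEquiv.apply_symm_apply]
    funext j
    rw [Matrix.mul_apply, Finset.sum_eq_single 0 (fun t _ ht => by simp [Ne.symm ht]) (by simp)]
    simp
  refine le_antisymm hle ((Submodule.span_singleton_le_iff_mem _ _).2 ?_)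
  haveI : Nonempty W.toScheme := hne
  haveI : IsDomain Γ(X', W) := inferInstance
  obtain ⟨v, hv, hv0⟩ : ∃ v ∈ lineY str hsq eA (fromSpec_comp' k K hW), v ≠ 0 := by
    by_contra! h0
    have hbot : lineY str hsq eA (fromSpec_comp' k K hW) = ⊥ := (Submodule.eq_bot_iff _).2 h0
    have hr := hL.rank ⟨⊥, Ideal.isPrime_bot⟩
    rw [Module.rankAtStalk_eq_of_equiv (Submodule.quotEquivOfEqBot _ hbot), Module.rankAtStalk_eq_finrank_of_free,
      Pi.natCast_apply, Nat.cast_id, Module.finrank_fin_fun] at hr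
    have := NeZero.pos n
    omega
  obtain ⟨c, hc⟩ := Submodule.mem_span_singleton.1 (hle hv)
  exact hL.saturated (fun hc0 => hv0 (by rw [← hc, hc0, zero_smul])) (hc.symm ▸ hv)

include hsq hpι in
/-- The line of a point in a small affine open. -/
theorem lineY_eq [IsIntegral X'] {U : X.Opens} (hU : IsAffineOpen U) {W : X'.Opens} (hW : IsAffineOpen W)
    (hne : Nonempty W) (h : W ≤ q ⁻¹ᵁ U) {g : Γ(P, W)} (hg : Function.Surjective fun r : Γ(X', W) => r • g)
    {R : Type u} [CommRing R] [Algebra k R] {τ : K →ₐ[k] R} {y : Spec (CommRingCat.of R) ⟶ X'}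
    (hy : y ≫ (X' ↘ Spec (CommRingCat.of K)) = Spec.map (CommRingCat.ofHom (τ : K →+* R)))
    (φ : Γ(X', W) →+* R) (hφ : Spec.map (CommRingCat.ofHom φ) ≫ hW.fromSpec = y) :
    lineY str hsq eA hy = Submodule.span R {⇑φ ∘ r0 b str eA ι W g} := by
  letI := alg' k K W
  have hτ : φ.comp ((τW k W : K →ₐ[k] Γ(X', W)) : K →+* Γ(X', W)) = (τ : K →+* R) := by
    refine congrArg CommRingCat.Hom.hom (Spec.map_injective (a₁ := CommRingCat.ofHom (φ.comp ((τW k W : K →ₐ[k] Γ(X', W)) : K →+* Γ(X', W))))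
      (a₂ := CommRingCat.ofHom (τ : K →+* R)) ?_)
    rw [CommRingCat.ofHom_comp, Spec.map_comp, ← hy, ← hφ, Category.assoc, fromSpec_comp' k K hW]
  have hcomm : ∀ a : k, φ (algebraMap k Γ(X', W) a) = algebraMap k R a := fun a =>
    (RingHom.congr_fun hτ (algebraMap k K a)).trans (τ.commutes a)
  let φ' : Γ(X', W) →ₐ[k] R :=
    { φ with commutes' := hcomm }
  have hτ' : τ = φ'.comp (τW k W) := AlgHom.ext fun a => (RingHom.congr_fun hτ a).symm
  subst hτ' hφ
  rw [show lineY str hsq eA hy = lineY str hsq eA (comp_map_eq hsq φ' (fromSpec_comp' k K hW)) from rfl,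
    lineY_map str hsq eA φ' (fromSpec_comp' k K hW), lineY_affine b str hsq eA ι p hpι hU hW hne h hg, mapL_span_singleton]

end Corner

end Groth.Agent.H23SB
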