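import Groth.Agent.H02CA.SB.Ideals
import Groth.Agent.LeadQSub.SubSheaf
import Groth.Agent.H23KS.FieldBC
import Groth.Agent.H8Props.FinLocFree.Sheaf
import Groth.Agent.H23Para.Restrict
import Groth.Agent.H22Alg.PnDeg0
import Mathlib

/-!
# The tautological ideal sheaf of a Severi–Brauer scheme

For `X` whose points are the left ideals of `A` with projective quotient of given corank, the ideals of the affine
opens glue to a submodule `V` of `A ⊗ O_X`, stable under left multiplication by `A`.
-/

set_option autoImplicit false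
set_option linter.style.haveILetI false
set_option linter.unusedSectionVars false

universe u

open CategoryTheory CategoryTheory.Limits AlgebraicGeometry Opposite TopologicalSpace
open scoped TensorProduct

noncomputable section

namespace Groth.Agent.H23SB

open Groth.Agent Groth.Agent.H02CA.SB

attribute [local instance] Abelian.hasFiniteBiproducts

variable {k : Type u} [Field k] {A : Type u} [Ring A] [Algebra k A] {c : ℕ} {X : Scheme.{u}}
  [X.Over (Spec (CommRingCat.of k))] {m : ℕ} (b : Module.Basis (Fin m) k A)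

variable (k) in
/-- The scalars of sections. -/
@[reducible] def alg (U : X.Opens) : Algebra k Γ(X, U) :=
  (LeadFF.scal (X ↘ Spec (CommRingCat.of k)) U).toAlgebra

attribute [local instance] alg

variable (k) in
/-- Restriction of sections as algebra maps. -/
def resAlg {U V : X.Opens} (h : V ≤ U) : Γ(X, U) →ₐ[k] Γ(X, V) where
  __ := (X.presheaf.map (homOfLE h).op).hom
  commutes' a := LeadFF.map_scal (X ↘ Spec (CommRingCat.of k)) h a

theorem resAlg_apply {U V : X.Opens} (h : V ≤ U) (r : Γ(X, U)) :
    resAlg k h r = X.presheaf.map (homOfLE h).op r := rfl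

theorem fromSpec_comp {U : X.Opens} (hU : IsAffineOpen U) :
    hU.fromSpec ≫ (X ↘ Spec (CommRingCat.of k)) = Spec.map (CommRingCat.ofHom (algebraMap k Γ(X, U))) := by
  rw [show CommRingCat.ofHom (algebraMap k Γ(X, U)) = (Scheme.ΓSpecIso (CommRingCat.of k)).inv ≫
      (X ↘ Spec (CommRingCat.of k)).appLE ⊤ U le_top from LeadFF.scal_eq_appLE _ U, Spec.map_comp,
    ← IsAffineOpen.SpecMap_appLE_fromSpec _ (isAffineOpen_top _) hU le_top]
  congr 1
  rw [IsAffineOpen.fromSpec_top, Scheme.isoSpec_Spec_inv]

variable (k) in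
/-- The tautological point of an affine open. -/
def pt {U : X.Opens} (hU : IsAffineOpen U) : BrSev.Pts (X ↘ Spec (CommRingCat.of k)) Γ(X, U) :=
  ⟨hU.fromSpec, fromSpec_comp hU⟩

theorem pt_map {U V : X.Opens} (hU : IsAffineOpen U) (hV : IsAffineOpen V) (h : V ≤ U) :
    BrSev.Pts.map _ (resAlg k h) (pt k hU) = pt k hV := by
  refine Subtype.ext ?_
  show Spec.map (CommRingCat.ofHom (resAlg k h : Γ(X, U) →+* Γ(X, V))) ≫ hU.fromSpec = hV.fromSpec
  exact hU.map_fromSpec hV (homOfLE h).op

/-- The free module with basis that of `A`. -/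
abbrev FA (X : Scheme.{u}) (m : ℕ) : X.Modules := FlatMod.freeMod X m

/-- The coordinate functionals. -/
def proj (l : Fin m) : FA X m ⟶ Coh.structureModule X :=
  (biproduct.isoCoproduct fun _ : Fin m => Coh.structureModule X).inv ≫
    biproduct.π (fun _ : Fin m => Coh.structureModule X) l

/-- The coordinate inclusions. -/
def incl (l : Fin m) : Coh.structureModule X ⟶ FA X m := Sigma.ι (fun _ : Fin m => Coh.structureModule X) l

theorem incl_proj (l p : Fin m) :
    incl l ≫ proj p = (if l = p then 𝟙 (Coh.structureModule X) else 0) := by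
  have h : Sigma.ι (fun _ : Fin m => Coh.structureModule X) l ≫
      (biproduct.isoCoproduct fun _ : Fin m => Coh.structureModule X).inv =
      biproduct.ι (fun _ : Fin m => Coh.structureModule X) l := by simp
  rw [proj, incl, ← Category.assoc, h, biproduct.ι_π]
  split_ifs <;> rfl

theorem sum_proj_incl : ∑ l : Fin m, proj l ≫ incl l = 𝟙 (FA X m) := by
  refine Sigma.hom_ext _ _ fun p => ?_
  rw [Preadditive.comp_sum, Category.comp_id, Finset.sum_eq_single p]
  · show incl p ≫ proj p ≫ incl p = incl p
    rw [← Category.assoc, incl_proj, if_pos rfl, Category.id_comp]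
  · intro l _ hl
    show incl p ≫ proj l ≫ incl l = 0
    rw [← Category.assoc, incl_proj, if_neg hl.symm, zero_comp]
  · simp

/-- The coordinates of a section. -/
def coord (U : X.Opens) : Γ(FA X m, U) →ₗ[Γ(X, U)] (Fin m → Γ(X, U)) where
  toFun t l := (proj l).app U t
  map_add' s t := funext fun l => map_add ((proj l).app U).hom s t
  map_smul' r t := funext fun l => Scheme.Modules.Hom.app_smul (proj l) r t

/-- The section with given coordinates. -/
def ofCoord (U : X.Opens) : (Fin m → Γ(X, U)) →ₗ[Γ(X, U)] Γ(FA X m, U) where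
  toFun v := ∑ l, (incl l).app U (v l)
  map_add' v w := by
    rw [← Finset.sum_add_distrib]
    exact Finset.sum_congr rfl fun l _ => map_add ((incl l).app U).hom _ _
  map_smul' r v := by
    rw [RingHom.id_apply, Finset.smul_sum]
    exact Finset.sum_congr rfl fun l _ => Scheme.Modules.Hom.app_smul (incl l) r (v l)

theorem app_sum {M N : X.Modules} {ι : Type} (s : Finset ι) (φ : ι → (M ⟶ N)) (U : X.Opens) (x : Γ(M, U)) :
    (∑ i ∈ s, φ i).app U x = ∑ i ∈ s, (φ i).app U x :=
  map_sum (H23KS.evalAt U x) φ s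

theorem ofCoord_coord (U : X.Opens) (t : Γ(FA X m, U)) : ofCoord U (coord U t) = t := by
  show ∑ l, (proj l ≫ incl l).app U t = t
  rw [← app_sum, sum_proj_incl]
  rfl

theorem coord_ofCoord (U : X.Opens) (v : Fin m → Γ(X, U)) : coord U (ofCoord U v) = v := by
  funext p
  show (proj p).app U (∑ l, (incl l).app U (v l)) = v p
  rw [map_sum, Finset.sum_eq_single p]
  · show (incl p ≫ proj p).app U (v p) = v p
    rw [incl_proj, if_pos rfl]
    rfl
  · intro l _ hl
    show (incl l ≫ proj p).app U (v l) = 0
    rw [incl_proj, if_neg hl]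
    rfl
  · simp

theorem coord_res {U V : X.Opens} (h : V ≤ U) (t : Γ(FA X m, U)) (l : Fin m) :
    coord V ((FA X m).presheaf.map (homOfLE h).op t) l = resAlg k h (coord U t l) :=
  H11Tilde.app_map_apply (proj l) h t

/-- Sections of `A ⊗ O` over an open. -/
def toF (U : X.Opens) : Γ(X, U) ⊗[k] A →ₗ[Γ(X, U)] Γ(FA X m, U) :=
  (ofCoord U).comp (Algebra.TensorProduct.basis Γ(X, U) b).equivFun.toLinearMap

/-- An element of `A ⊗ O` from a section. -/
def ofF (U : X.Opens) : Γ(FA X m, U) →ₗ[Γ(X, U)] Γ(X, U) ⊗[k] A :=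
  (Algebra.TensorProduct.basis Γ(X, U) b).equivFun.symm.toLinearMap.comp (coord U)

theorem ofF_toF (U : X.Opens) (x : Γ(X, U) ⊗[k] A) : ofF b U (toF b U x) = x := by
  show (Algebra.TensorProduct.basis Γ(X, U) b).equivFun.symm (coord U (ofCoord U _)) = x
  rw [coord_ofCoord]
  exact LinearEquiv.symm_apply_apply _ _

theorem toF_ofF (U : X.Opens) (t : Γ(FA X m, U)) : toF b U (ofF b U t) = t := by
  show ofCoord U ((Algebra.TensorProduct.basis Γ(X, U) b).equivFun ((Algebra.TensorProduct.basis Γ(X, U) b).equivFun.symm _)) = t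
  rw [LinearEquiv.apply_symm_apply, ofCoord_coord]

theorem repr_mapA {R S : Type u} [CommRing R] [Algebra k R] [CommRing S] [Algebra k S] (φ : R →ₐ[k] S)
    (x : R ⊗[k] A) (l : Fin m) :
    (Algebra.TensorProduct.basis S b).repr (mapA A φ x) l = φ ((Algebra.TensorProduct.basis R b).repr x l) := by
  induction x using TensorProduct.induction_on with
  | zero => simp
  | add x y hx hy => simp [map_add, hx, hy]
  | tmul r a => simp [Algebra.TensorProduct.basis_repr_tmul, map_smul]

theorem ofF_res {U V : X.Opens} (h : V ≤ U) (t : Γ(FA X m, U)) :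
    ofF b V ((FA X m).presheaf.map (homOfLE h).op t) = mapA A (resAlg k h) (ofF b U t) := by
  apply (Algebra.TensorProduct.basis Γ(X, V) b).equivFun.injective
  funext l
  rw [Module.Basis.equivFun_apply, Module.Basis.equivFun_apply, repr_mapA, ← Module.Basis.equivFun_apply,
    ← Module.Basis.equivFun_apply]
  simp only [ofF, LinearMap.comp_apply, LinearEquiv.coe_coe, LinearEquiv.apply_symm_apply]
  exact coord_res h t l

theorem res_toF {U V : X.Opens} (h : V ≤ U) (x : Γ(X, U) ⊗[k] A) :
    (FA X m).presheaf.map (homOfLE h).op (toF b U x) = toF b V (mapA A (resAlg k h) x) := by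
  conv_rhs => rw [← ofF_toF b U x, ← ofF_res, toF_ofF]

section lmul

/-- Left multiplication. -/
def lmul (a : A) : FA X m ⟶ FA X m :=
  ∑ p, ∑ l, proj l ≫ Formal.smulMod k (Coh.structureModule X) (b.repr (a * b l) p) ≫ incl p

theorem ofF_lmul (a : A) (U : X.Opens) (t : Γ(FA X m, U)) :
    ofF b U ((lmul b a).app U t) = (1 ⊗ₜ[k] a) * ofF b U t := by
  let B := Algebra.TensorProduct.basis Γ(X, U) b
  apply B.equivFun.injective
  funext p
  rw [show B.equivFun (ofF b U ((lmul b a).app U t)) = coord U ((lmul b a).app U t) from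
    B.equivFun.apply_symm_apply _]
  have h1 : coord U ((lmul b a).app U t) p = ∑ l, algebraMap k Γ(X, U) (b.repr (a * b l) p) * coord U t l := by
    have h2 : (lmul b a).app U t =
        ofCoord U (fun p => ∑ l, algebraMap k Γ(X, U) (b.repr (a * b l) p) * coord U t l) := by
      show _ = ∑ p, (incl p).app U _
      rw [lmul, app_sum]
      refine Finset.sum_congr rfl fun p _ => ?_
      rw [app_sum]
      refine Eq.trans ?_ (map_sum ((incl p).app U).hom _ _).symm
      exact Finset.sum_congr rfl fun l _ => rfl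
    rw [h2, coord_ofCoord]
  rw [h1]
  have h3 : ofF b U t = ∑ l, coord U t l • ((1 : Γ(X, U)) ⊗ₜ[k] b l) := by
    simp [ofF, Module.Basis.equivFun_symm_apply, Algebra.TensorProduct.basis_apply]
  rw [h3, Finset.mul_sum, Module.Basis.equivFun_apply]
  simp only [mul_smul_comm, Algebra.TensorProduct.tmul_mul_tmul, one_mul, map_sum, map_smul, Finsupp.finsetSum_apply,
    Finsupp.smul_apply, smul_eq_mul, B, Algebra.TensorProduct.basis_repr_tmul, Finsupp.mapRange_apply]
  exact Finset.sum_congr rfl fun l _ => mul_comm _ _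

theorem lmul_ext {φ : FA X m ⟶ FA X m} {a : A}
    (h : ∀ (U : X.Opens) (t : Γ(FA X m, U)), ofF b U (φ.app U t) = (1 ⊗ₜ[k] a) * ofF b U t) : φ = lmul b a :=
  Scheme.Modules.hom_ext _ _ fun U => ConcreteCategory.hom_ext _ _ fun t => by
    show φ.app U t = (lmul b a).app U t
    rw [← toF_ofF b U (φ.app U t), h, ← ofF_lmul, toF_ofF]

end lmul

variable (str : BrSev.SBStr k A c (X ↘ Spec (CommRingCat.of k)))

/-- The ideal of an affine open. -/
def ideal {U : X.Opens} (hU : IsAffineOpen U) : Submodule Γ(X, U) (Γ(X, U) ⊗[k] A) :=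
  (str.bij Γ(X, U) (pt k hU)).1.toSubmodule

theorem ideal_res {U V : X.Opens} (hU : IsAffineOpen U) (hV : IsAffineOpen V) (h : V ≤ U) :
    ideal str hV = Submodule.span Γ(X, V) (mapA A (resAlg k h) '' (ideal str hU : Set (Γ(X, U) ⊗[k] A))) := by
  rw [ideal, ← pt_map hU hV h, str.natural]
  exact map_eq_span _ _

/-- The sections spanning the ideal sheaf. -/
def gens : LeadQSub.Gens (FA X m) :=
  {g | ∃ (U : X.Opens) (hU : IsAffineOpen U) (x : Γ(X, U) ⊗[k] A), x ∈ ideal str hU ∧ g = ⟨U, toF b U x⟩}

include b in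
theorem finite_ideal {U : X.Opens} (hU : IsAffineOpen U) : Module.Finite Γ(X, U) (ideal str hU) := by
  let N := (str.bij Γ(X, U) (pt k hU)).1
  haveI : Module.Finite Γ(X, U) (Γ(X, U) ⊗[k] A) := Module.Finite.of_basis (Algebra.TensorProduct.basis Γ(X, U) b)
  haveI := N.projective_quotient
  obtain ⟨s, hs⟩ := Module.projective_lifting_property N.toSubmodule.mkQ LinearMap.id (Submodule.mkQ_surjective _)
  let r : Γ(X, U) ⊗[k] A →ₗ[Γ(X, U)] N.toSubmodule :=
    (LinearMap.id - s.comp N.toSubmodule.mkQ).codRestrict N.toSubmodule fun x => by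
      rw [← Submodule.Quotient.mk_eq_zero]
      have := LinearMap.congr_fun hs (N.toSubmodule.mkQ x)
      simp only [LinearMap.comp_apply, LinearMap.id_apply, Submodule.mkQ_apply] at this
      simp [this]
  refine Module.Finite.of_surjective r fun y => ⟨y.1, Subtype.ext ?_⟩
  show y.1 - s (N.toSubmodule.mkQ y.1) = y.1
  rw [show N.toSubmodule.mkQ y.1 = 0 from (Submodule.Quotient.mk_eq_zero _).2 y.2, map_zero, sub_zero]

theorem exists_chart {U : X.Opens} (hU : IsAffineOpen U) :
    ∃ S : Set Γ(FA X m, U), LeadQSub.Chart (gens b str) U S ∧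
      Submodule.span Γ(X, U) S = (ideal str hU).map (toF b U) := by
  obtain ⟨s, hs⟩ := (Module.Finite.iff_fg.1 (finite_ideal b str hU) :)
  refine ⟨toF b U '' (s : Set _), ⟨hU, s.finite_toSet.image _, ?_, ?_⟩, by rw [← Submodule.map_span, hs]⟩
  · rintro _ ⟨x, hx, rfl⟩
    exact LeadQSub.locSpan_gen ⟨U, toF b U x⟩ ⟨U, hU, x, hs ▸ Submodule.subset_span hx, rfl⟩
  · rintro _ ⟨W, hW, x, hx, rfl⟩
    intro y hy
    obtain ⟨D, hD, hyD, hle⟩ := exists_isAffineOpen_mem_and_subset (U := W ⊓ U) (x := y) hy
    refine ⟨D, hle, hyD, ?_⟩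
    have h2 : mapA A (resAlg k (le_trans hle inf_le_left)) x ∈ ideal str hD := by
      rw [ideal_res str hW hD (le_trans hle inf_le_left)]
      exact Submodule.subset_span ⟨x, hx, rfl⟩
    rw [ideal_res str hU hD (le_trans hle inf_le_right)] at h2
    rw [LeadQSub.res_res]
    rw [show LeadQSub.res (FA X m) (le_trans hle inf_le_left) (toF b W x) = toF b D (mapA A (resAlg k _) x) from
      res_toF b _ x, LeadQSub.gensOn_ofSet _ (le_trans hle inf_le_right)]
    revert h2
    generalize mapA A (resAlg k (le_trans hle inf_le_left)) x = z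
    intro h2
    induction h2 using Submodule.span_induction with
    | zero => rw [map_zero]; exact Submodule.zero_mem _
    | add a d _ _ ha hd => rw [map_add]; exact Submodule.add_mem _ ha hd
    | smul r a _ ha => rw [map_smul]; exact Submodule.smul_mem _ _ ha
    | mem a ha =>
      obtain ⟨w, hw, rfl⟩ := ha
      rw [← res_toF b]
      refine LeadQSub.res_mem_span (le_trans hle inf_le_right)
        (P := toF b U '' (s : Set _)) ?_ ?_
      · exact fun p hp => Submodule.subset_span ⟨p, hp, rfl⟩
      rw [← Submodule.map_span, hs]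
      exact Submodule.mem_map_of_mem hw

theorem isQCoh_FA : Coh.IsQCoh (FA X m) :=
  H8Props.FinLocFree.isQCoh_of_isFinLocFree _ (H16Derived.KFlat.Stalk.isFinLocFree_sigma _ fun _ =>
    H23Para.isFinLocFree_of_isInvertible (H22Alg.PnDeg0.isInvertible_structure _))

theorem hasCharts : LeadQSub.HasCharts (gens b str) (⊤ : X.Opens) := fun x _ => by
  obtain ⟨U, hU, hxU, -⟩ := exists_isAffineOpen_mem_and_subset (U := (⊤ : X.Opens)) (x := x) trivial
  obtain ⟨S, hS, -⟩ := exists_chart b str hU
  exact ⟨U, S, hxU, le_top, hS⟩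

theorem locSpan_iff {U : X.Opens} (hU : IsAffineOpen U) {t : Γ(FA X m, U)} :
    LeadQSub.LocSpan (gens b str) U t ↔ ofF b U t ∈ ideal str hU := by
  obtain ⟨S, hS, he⟩ := exists_chart b str hU
  rw [hS.span isQCoh_FA, he, Submodule.mem_map]
  exact ⟨fun ⟨y, hy, h⟩ => by rw [← h, ofF_toF]; exact hy, fun h => ⟨_, h, toF_ofF b U t⟩⟩

/-- The tautological ideal sheaf. -/
abbrev V : X.Modules := LeadQSub.spanMod (gens b str)

/-- The sections of the ideal sheaf over an affine open. -/
def secEquiv {U : X.Opens} (hU : IsAffineOpen U) : Γ(V b str, U) ≃ₗ[Γ(X, U)] ideal str hU where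
  toFun y := ⟨ofF b U y.1, (locSpan_iff b str hU).1 y.2⟩
  map_add' y z := Subtype.ext (map_add (ofF b U) y.1 z.1)
  map_smul' r y := Subtype.ext (map_smul (ofF b U) r y.1)
  invFun x := ⟨toF b U x.1, (locSpan_iff b str hU).2 (by rw [ofF_toF]; exact x.2)⟩
  left_inv y := Subtype.ext (toF_ofF b U y.1)
  right_inv x := Subtype.ext (ofF_toF b U x.1)

theorem isQCoh_V : Coh.IsQCoh (V b str) := LeadQSub.isQuasicoherent_spanMod isQCoh_FA (hasCharts b str)

theorem isFinLocFree_V : FlatMod.IsFinLocFree (V b str) := by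
  refine H8Props.FinLocFree.isFinLocFree_of_sections _ (isQCoh_V b str) fun x => ?_
  obtain ⟨U, hU, hxU, -⟩ := exists_isAffineOpen_mem_and_subset (U := (⊤ : X.Opens)) (x := x) trivial
  let N := (str.bij Γ(X, U) (pt k hU)).1
  haveI := finite_ideal b str hU
  haveI : Module.Free Γ(X, U) (Γ(X, U) ⊗[k] A) := Module.Free.of_basis (Algebra.TensorProduct.basis Γ(X, U) b)
  haveI := N.projective_quotient
  haveI : Module.Projective Γ(X, U) (ideal str hU) := by
    obtain ⟨s, hs⟩ := Module.projective_lifting_property N.toSubmodule.mkQ LinearMap.id (Submodule.mkQ_surjective _)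
    refine Module.Projective.of_split (ideal str hU).subtype
      ((LinearMap.id - s.comp N.toSubmodule.mkQ).codRestrict N.toSubmodule fun x => by
        rw [← Submodule.Quotient.mk_eq_zero]
        have := LinearMap.congr_fun hs (N.toSubmodule.mkQ x)
        simp only [LinearMap.comp_apply, LinearMap.id_apply, Submodule.mkQ_apply] at this
        simp [this]) (LinearMap.ext fun y => Subtype.ext ?_)
    show y.1 - s (N.toSubmodule.mkQ y.1) = y.1
    rw [show N.toSubmodule.mkQ y.1 = 0 from (Submodule.Quotient.mk_eq_zero _).2 y.2, map_zero, sub_zero]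
  haveI : Module.Finite Γ(X, U) Γ(V b str, U) := Module.Finite.equiv (secEquiv b str hU).symm
  haveI : Module.Projective Γ(X, U) Γ(V b str, U) := Module.Projective.of_equiv (secEquiv b str hU).symm
  exact ⟨U, hU, hxU, Module.finitePresentation_of_projective _ _, inferInstance⟩

theorem lmul_locSpan (a : A) {W : X.Opens} {t : Γ(FA X m, W)} (ht : LeadQSub.LocSpan (gens b str) W t) :
    LeadQSub.LocSpan (gens b str) W ((lmul b a).app W t) := by
  refine LeadQSub.locSpan_local fun x hx => ?_
  obtain ⟨D, hD, hxD, hle⟩ := exists_isAffineOpen_mem_and_subset (U := W) (x := x) hx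
  refine ⟨D, hle, hxD, ?_⟩
  rw [show LeadQSub.res (FA X m) hle ((lmul b a).app W t) = (lmul b a).app D (LeadQSub.res (FA X m) hle t) from
    (H11Tilde.app_map_apply (lmul b a) hle t).symm, locSpan_iff b str hD, ofF_lmul]
  exact (str.bij Γ(X, D) (pt k hD)).2 _ _ ((locSpan_iff b str hD).1 (LeadQSub.locSpan_res hle ht))

theorem lmul_factor (a : A) : LeadQSub.spanι (gens b str) ≫ lmul b a ≫ cokernel.π (LeadQSub.spanι (gens b str)) = 0 :=
  Scheme.Modules.hom_ext _ _ fun U => ConcreteCategory.hom_ext _ _ fun y => by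
    obtain ⟨z, hz⟩ := (LeadQSub.mem_range_spanι (Γs := gens b str)).2 (lmul_locSpan b str a y.2)
    show (cokernel.π (LeadQSub.spanι (gens b str))).app U ((lmul b a).app U ((LeadQSub.spanι _).app U y)) = 0
    refine (congrArg _ hz.symm).trans ?_
    exact congr($(congr(Scheme.Modules.Hom.app $(cokernel.condition (LeadQSub.spanι (gens b str))) U)) z)

/-- The action on the ideal sheaf. -/
def act (a : A) : V b str ⟶ V b str :=
  Abelian.monoLift (LeadQSub.spanι (gens b str)) (LeadQSub.spanι (gens b str) ≫ lmul b a)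
    ((Category.assoc _ _ _).trans (lmul_factor b str a))

@[reassoc]
theorem act_ι (a : A) : act b str a ≫ LeadQSub.spanι (gens b str) = LeadQSub.spanι (gens b str) ≫ lmul b a :=
  Abelian.monoLift_comp _ _ _

/-- The algebra map to endomorphisms. -/
def actHom : letI := H23KS.endAlgebra k (V b str); A →ₐ[k] End (V b str) :=
  letI := H23KS.endAlgebra k (V b str)
  AlgHom.ofLinearMap
    { toFun := fun a => act b str a
      map_add' := fun x y => by
        show act b str (x + y) = act b str x + act b str y
        rw [← cancel_mono (LeadQSub.spanι (gens b str)), Preadditive.add_comp, act_ι, act_ι, act_ι,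
          ← Preadditive.comp_add]
        congr 1
        refine (lmul_ext b fun U t => ?_).symm
        show ofF b U ((lmul b x).app U t + (lmul b y).app U t) = _
        rw [map_add, ofF_lmul, ofF_lmul, TensorProduct.tmul_add, add_mul]
      map_smul' := fun r x => by
        show act b str (r • x) = r • (show End (V b str) from act b str x)
        rw [H23KS.endAlgebra_smul, ← cancel_mono (LeadQSub.spanι (gens b str))]
        show act b str (r • x) ≫ _ = (act b str x ≫ Formal.smulMod k _ r) ≫ _
        rw [Category.assoc, H23KS.smulMod_comm, act_ι_assoc, act_ι]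
        congr 1
        refine (lmul_ext b fun U t => ?_).symm
        show ofF b U (LeadFF.scal (X ↘ Spec (CommRingCat.of k)) U r • (lmul b x).app U t) = _
        rw [map_smul, ofF_lmul, TensorProduct.tmul_smul, smul_mul_assoc]
        exact algebraMap_smul _ _ _ }
    (by
      show act b str 1 = 𝟙 _
      rw [← cancel_mono (LeadQSub.spanι (gens b str)), act_ι, Category.id_comp]
      conv_rhs => rw [← Category.comp_id (LeadQSub.spanι (gens b str))]
      congr 1
      refine (lmul_ext b fun U t => ?_).symm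
      show ofF b U t = _
      rw [← Algebra.TensorProduct.one_def, one_mul])
    (fun x y => by
      show act b str (x * y) = act b str y ≫ act b str x
      rw [← cancel_mono (LeadQSub.spanι (gens b str)), Category.assoc, act_ι, act_ι, act_ι_assoc]
      congr 1
      refine (lmul_ext b fun U t => ?_).symm
      show ofF b U ((lmul b x).app U ((lmul b y).app U t)) = _
      rw [ofF_lmul, ofF_lmul, ← mul_assoc, Algebra.TensorProduct.tmul_mul_tmul, one_mul])

end Groth.Agent.H23SB
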