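import Groth.Agent.H23SB.Index
import Groth.Agent.H23SB.Corner
import Groth.Agent.H29Ref.DDualInvertible
import Groth.Agent.H10Coh.QcqsPush
import Groth.Agent.H10Coh.FinType2
import Groth.Agent.H06Mod.StalkExact
import Groth.Agent.H17.KoszTwist.Stalk
import Groth.Agent.H10Coh.QCohOps
import Groth.Agent.H7Lim.ModExact
import Groth.Agent.H7Lim.ModLocFree
import Groth.Agent.S2288
import Groth.Prelude.Def_CurvBase
import Mathlib

/-!
# A reflexive module with an action of an algebra split at the generic point
-/

set_option autoImplicit false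
set_option linter.style.haveILetI false
set_option linter.unusedSectionVars false

universe u

open CategoryTheory CategoryTheory.Limits AlgebraicGeometry Opposite TopologicalSpace
open scoped TensorProduct

noncomputable section

namespace Groth.Agent.H23SB.RightKer

open Groth.Agent Groth.Agent.H8Props.FunDescent

attribute [local instance] Abelian.hasFiniteBiproducts

variable {k : Type u} [Field k] {X : Scheme.{u}} [X.Over (Spec (CommRingCat.of k))] {d : ℕ}

/-- The sum of copies of a module. -/
abbrev Pw (G : X.Modules) (d : ℕ) : X.Modules := ⨁ fun _ : Fin d => G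

/-- Scalar matrices acting on a sum of copies. -/
def matAct (G : X.Modules) (d : ℕ) : Matrix (Fin d) (Fin d) k →+* End (Pw G d) :=
  (endPowEquiv (Iso.refl (Pw G d))).symm.toRingHom.comp (H23KS.endScalar k G).mapMatrix

theorem matAct_algebraMap (G : X.Modules) (d : ℕ) (r : k) :
    matAct G d (algebraMap k (Matrix (Fin d) (Fin d) k) r) = H23KS.endScalar k (Pw G d) r := by
  refine (endPowEquiv (Iso.refl (Pw G d))).symm_apply_eq.2 (Matrix.ext fun i j => ?_)
  rw [endPowEquiv_scalar (Iso.refl (Pw G d)) (fun M => H23KS.endScalar k M r)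
    (fun φ => H23KS.smulMod_comm k φ r) i j]
  show H23KS.endScalar k G (algebraMap k (Matrix (Fin d) (Fin d) k) r i j) = _
  rw [Matrix.algebraMap_matrix_apply]
  split_ifs <;> simp

theorem ι_matAct_π (G : X.Modules) (T : Matrix (Fin d) (Fin d) k) (i j : Fin d) :
    biproduct.ι (fun _ : Fin d => G) j ≫ End.asHom (matAct G d T) ≫ biproduct.π _ i =
      Formal.smulMod k G (T i j) := by
  have h := congrFun (congrFun ((endPowEquiv (Iso.refl (Pw G d))).apply_symm_apply
    ((H23KS.endScalar k G).mapMatrix T)) i) j
  refine Eq.trans ?_ h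
  show _ = biproduct.ι (fun _ : Fin d => G) j ≫ (Iso.refl (Pw G d)).inv ≫ End.asHom (matAct G d T) ≫
    (Iso.refl (Pw G d)).hom ≫ biproduct.π _ i
  simp

/-- Copies of a morphism. -/
def diag {G H : X.Modules} (σ : G ⟶ H) (d : ℕ) : Pw G d ⟶ Pw H d := biproduct.map fun _ => σ

theorem matAct_diag {G H : X.Modules} (σ : G ⟶ H) (T : Matrix (Fin d) (Fin d) k) :
    End.asHom (matAct G d T) ≫ diag σ d = diag σ d ≫ End.asHom (matAct H d T) := by
  refine biproduct.hom_ext' _ _ fun j => biproduct.hom_ext _ _ fun i => ?_
  simp only [diag, Category.assoc, biproduct.map_π, biproduct.ι_map_assoc]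
  rw [reassoc_of% ι_matAct_π G T i j, ι_matAct_π H T i j]
  exact H23KS.smulMod_comm k σ (T i j)

/-- The scalar in a stalk. -/
def sk (x : X) : k →+* X.presheaf.stalk x :=
  (X.presheaf.germ ⊤ x trivial).hom.comp (LeadFF.scal (X ↘ Spec (CommRingCat.of k)) ⊤)

/-- The coordinates of a germ. -/
def coord (G : X.Modules) (d : ℕ) (x : X) :
    (Pw G d).presheaf.stalk x ≃ₗ[X.presheaf.stalk x] (Fin d → G.presheaf.stalk x) :=
  stalkPiEquiv G (biproduct.isoCoproduct fun _ : Fin d => G) x

theorem coord_apply (G : X.Modules) (x : X) (v : (Pw G d).presheaf.stalk x) (i : Fin d) :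
    coord G d x v i = H06Mod.stalkLin (biproduct.π (fun _ : Fin d => G) i) x v := by
  show H06Mod.stalkLin (((biproduct.isoCoproduct fun _ : Fin d => G) ≪≫
    (biproduct.isoCoproduct fun _ : Fin d => G).symm).hom ≫ biproduct.π _ i) x v = _
  rw [Iso.self_symm_id, Iso.refl_hom, Category.id_comp]

theorem stalkLin_smulMod' (G : X.Modules) (r : k) (x : X) (v : G.presheaf.stalk x) :
    H06Mod.stalkLin (Formal.smulMod k G r) x v = sk x r • v := by
  obtain ⟨U, hU, a, rfl⟩ := TopCat.Presheaf.exists_germ_eq G.presheaf v
  rw [H06Mod.stalkLin_germ, H23KS.smulMod_app, Mero.germ_smul]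
  congr 1
  show _ = X.presheaf.germ ⊤ x trivial (LeadFF.scal (X ↘ Spec (CommRingCat.of k)) ⊤ r)
  rw [← X.presheaf.germ_res_apply (homOfLE (le_top : U ≤ ⊤)) x hU, LeadFF.map_scal]

theorem coord_diag {G H : X.Modules} (σ : G ⟶ H) (x : X) (v : (Pw G d).presheaf.stalk x) (i : Fin d) :
    coord H d x (H06Mod.stalkLin (diag σ d) x v) i = H06Mod.stalkLin σ x (coord G d x v i) := by
  rw [coord_apply, coord_apply, ← stalkLin_comp'', ← stalkLin_comp'', diag, biproduct.map_π]

theorem coord_matAct (G : X.Modules) (T : Matrix (Fin d) (Fin d) k) (x : X) (v : (Pw G d).presheaf.stalk x) (i : Fin d) :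
    coord G d x (H06Mod.stalkLin (End.asHom (matAct G d T)) x v) i = ∑ j, sk x (T i j) • coord G d x v j := by
  rw [coord_apply, ← stalkLin_comp'']
  have h : End.asHom (matAct G d T) ≫ biproduct.π _ i =
      ∑ j, biproduct.π (fun _ : Fin d => G) j ≫ Formal.smulMod k G (T i j) := by
    refine biproduct.hom_ext' _ _ fun l => ?_
    rw [ι_matAct_π, Preadditive.comp_sum, Finset.sum_eq_single l]
    · rw [biproduct.ι_π_self_assoc]
    · intro b _ hb
      rw [biproduct.ι_π_ne_assoc _ hb.symm, zero_comp]
    · simp
  rw [h, stalkLin_finset_sum, LinearMap.sum_apply]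
  exact Finset.sum_congr rfl fun j _ => by rw [stalkLin_comp'', stalkLin_smulMod', coord_apply]

section construction

variable [IsIntegral X] [IsLocallyNoetherian X] {B : Type u} [Ring B] [Algebra k B] (b : Module.Basis (Fin d) k B)
  (U : X.Opens) (a : Fin d → Γ(X, U))

/-- Functions on the open set, as a module on the whole scheme. -/
def target : X.Modules := (Scheme.Modules.pushforward U.ι).obj (Coh.structureModule (U : Scheme.{u}))

/-- The function `1` on the open set. -/
def one' : Γ(target U, U) := (show Γ((U : Scheme.{u}), U.ι ⁻¹ᵁ U) from 1)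

/-- A function on the open set, as a global section. -/
def sect (r : Γ(X, U)) : Γ(target U, ⊤) :=
  (show Γ((U : Scheme.{u}), U.ι ⁻¹ᵁ ⊤) from
    (U : Scheme.{u}).presheaf.map (homOfLE (le_of_le_of_eq le_top (Scheme.Opens.ι_preimage_self U).symm)).op (U.ι.app U r))

theorem sect_res (r : Γ(X, U)) :
    (target U).presheaf.map (homOfLE (le_top : U ≤ ⊤)).op (sect U r) = r • one' U := by
  refine Eq.trans ?_ (mul_one (U.ι.app U r : Γ((U : Scheme.{u}), U.ι ⁻¹ᵁ U))).symm
  show (U : Scheme.{u}).presheaf.map _ ((U : Scheme.{u}).presheaf.map _ (U.ι.app U r)) = _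
  refine (CommRingCat.comp_apply _ _ _).symm.trans ?_
  rw [← Functor.map_comp, Subsingleton.elim (_ ≫ _) (𝟙 (op (U.ι ⁻¹ᵁ U))), CategoryTheory.Functor.map_id]
  rfl

/-- Right multiplication by the element with coordinates `a`. -/
def R : Pw (Coh.structureModule X) d ⟶ Pw (target U) d :=
  ∑ p, End.asHom (matAct (Coh.structureModule X) d (LinearMap.toMatrix b b (LinearMap.mulRight k (b p)))) ≫
    diag (H11Tilde.homOfGlobal (target U) (sect U (a p))) d

theorem leftMul_comm_R (x : B) :
    End.asHom (matAct (Coh.structureModule X) d (Algebra.leftMulMatrix b x)) ≫ R b U a =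
      R b U a ≫ End.asHom (matAct (target U) d (Algebra.leftMulMatrix b x)) := by
  rw [R, Preadditive.comp_sum, Preadditive.sum_comp]
  refine Finset.sum_congr rfl fun p _ => ?_
  rw [Category.assoc, ← matAct_diag, ← Category.assoc, ← Category.assoc]
  congr 1
  show matAct (Coh.structureModule X) d _ * matAct (Coh.structureModule X) d _ =
    matAct (Coh.structureModule X) d _ * matAct (Coh.structureModule X) d _
  rw [← map_mul, ← map_mul, Algebra.leftMulMatrix_apply, ← LinearMap.toMatrix_mul, ← LinearMap.toMatrix_mul]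
  refine congrArg (fun f => matAct (Coh.structureModule X) d (LinearMap.toMatrix b b f)) (LinearMap.ext fun y => ?_)
  exact mul_assoc x y (b p)

/-- The kernel. -/
abbrev Ker : X.Modules := kernel (R b U a)

/-- The action on the kernel. -/
def act : letI := H23KS.endAlgebra k (Ker b U a); B →ₐ[k] End (Ker b U a) :=
  letI := H23KS.endAlgebra k (Ker b U a)
  let f : B → End (Ker b U a) := fun x => End.of (kernel.map (R b U a) (R b U a) _ _ (leftMul_comm_R b U a x).symm)
  have hf : ∀ x, End.asHom (f x) ≫ kernel.ι (R b U a) =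
      kernel.ι (R b U a) ≫ End.asHom (matAct (Coh.structureModule X) d (Algebra.leftMulMatrix b x)) :=
    fun x => kernel.lift_ι _ _ _
  { toFun := f
    map_one' := (cancel_mono (kernel.ι (R b U a))).1 <| (hf 1).trans <| by
      rw [map_one, map_one]
      exact (Category.comp_id _).trans (Category.id_comp _).symm
    map_mul' := fun x y => (cancel_mono (kernel.ι (R b U a))).1 <| (hf _).trans <| by
      rw [map_mul, map_mul]
      show _ ≫ (End.asHom _ ≫ End.asHom _) = (End.asHom (f y) ≫ End.asHom (f x)) ≫ _
      rw [Category.assoc, hf, ← Category.assoc, ← Category.assoc, hf]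
    map_zero' := (cancel_mono (kernel.ι (R b U a))).1 <| (hf 0).trans <| by
      rw [map_zero, map_zero]
      exact comp_zero.trans zero_comp.symm
    map_add' := fun x y => (cancel_mono (kernel.ι (R b U a))).1 <| (hf _).trans <| by
      rw [map_add, map_add]
      show _ ≫ (End.asHom _ + End.asHom _) = (End.asHom (f x) + End.asHom (f y)) ≫ _
      rw [Preadditive.comp_add, Preadditive.add_comp, hf, hf]
    commutes' := fun r => (cancel_mono (kernel.ι (R b U a))).1 <| (hf _).trans <| by
      rw [AlgHom.commutes, matAct_algebraMap]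
      exact (H23KS.smulMod_comm k (kernel.ι (R b U a)) r).symm }

variable (hU : IsAffineOpen U)

include hU in
theorem isQCoh_target : Coh.IsQCoh (target U) := by
  haveI : IsAffine (U : Scheme.{u}) := hU
  haveI : (Coh.structureModule (U : Scheme.{u})).IsQuasicoherent :=
    (H11Ample.isCoh_of_isInvertible (H11Ample.isInvertible_structureModule (X := (U : Scheme.{u})))).1
  exact H10Coh.isQuasicoherent_pushforward U.ι _

include hU in
theorem isCoh_ker : Coh.IsCoh (Ker b U a) := by
  refine H10Coh.isCoh_of_mono (kernel.ι _) (H7Lim.ModExact.isQCoh_kernel _ ?_ ?_) ?_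
  · exact H8Props.FinLocFree.isQCoh_of_isFinLocFree _ (H7Lim.ModLocFree.isFinLocFree_of_iso (biproduct.isoCoproduct _).symm
      (H16Derived.KFlat.Stalk.isFinLocFree_sigma _ fun _ =>
        H23Para.isFinLocFree_of_isInvertible (H22Alg.PnDeg0.isInvertible_structure X)))
  · exact @H10Coh.isQuasicoherent_biproduct X (Fin d) _ (fun _ => target U) fun _ => isQCoh_target U hU
  · exact H16Derived.KFlat.Stalk.isCoh_of_isFinLocFree (H7Lim.ModLocFree.isFinLocFree_of_iso (biproduct.isoCoproduct _).symm
      (H16Derived.KFlat.Stalk.isFinLocFree_sigma _ fun _ =>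
        H23Para.isFinLocFree_of_isInvertible (H22Alg.PnDeg0.isInvertible_structure X)))

theorem isTorsionFree_structure (Y : Scheme.{u}) [IsIntegral Y] : TorSh.IsTorsionFree (Coh.structureModule Y) := fun y =>
  Function.Injective.moduleIsTorsionFree _
    (H29Ref.unitEquiv y).symm.injective fun r v => map_smul _ r v

theorem isTorsionFree_target (hne : Nonempty U) : TorSh.IsTorsionFree (target U) := by
  haveI : Nonempty (U : Scheme.{u}) := hne
  haveI : IsIntegral (U : Scheme.{u}) := isIntegral_of_isOpenImmersion U.ι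
  haveI : IsDominant U.ι := ⟨by
    rw [DenseRange, Scheme.Opens.range_ι]
    exact U.2.dense ⟨_, hne.some.2⟩⟩
  haveI : Coh.IsQCoh (Coh.structureModule (U : Scheme.{u})) :=
    (H11Ample.isCoh_of_isInvertible (H11Ample.isInvertible_structureModule (X := (U : Scheme.{u})))).1
  exact S2288.result U.ι _ (isTorsionFree_structure _)

theorem isReflexiveAt_ker (hne : Nonempty U) (x : X) :
    Module.IsReflexive (X.presheaf.stalk x) ((Ker b U a).presheaf.stalk x) := by
  let e := (coord (Coh.structureModule X) d x).trans (LinearEquiv.piCongrRight fun _ =>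
    (H29Ref.unitEquiv x).symm)
  haveI : Module.IsReflexive (X.presheaf.stalk x) ((Pw (Coh.structureModule X) d).presheaf.stalk x) :=
    Module.equiv e.symm
  haveI : Module.Finite (X.presheaf.stalk x) ((Pw (Coh.structureModule X) d).presheaf.stalk x) :=
    Module.Finite.equiv e.symm
  let g := (H06Mod.stalkLin (R b U a) x).rangeRestrict
  haveI : Module.Finite (X.presheaf.stalk x) (LinearMap.range (H06Mod.stalkLin (R b U a) x)) := Module.Finite.range _
  haveI : Module.IsTorsionFree (X.presheaf.stalk x) (Fin d → (target U).presheaf.stalk x) := by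
    haveI := isTorsionFree_target U hne x
    infer_instance
  haveI : Module.IsTorsionFree (X.presheaf.stalk x) (LinearMap.range (H06Mod.stalkLin (R b U a) x)) :=
    Function.Injective.moduleIsTorsionFree _ ((coord (target U) d x).injective.comp Subtype.val_injective)
      fun r v => map_smul (coord (target U) d x) r v.1
  haveI : IsNoetherianRing (X.presheaf.stalk x) := inferInstance
  refine H1CAlg.isReflexive_of_exact (H06Mod.stalkLin (kernel.ι (R b U a)) x) g ?_ ?_
  · exact H17.KoszTwist.stalk_injective_of_mono _ x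
  · exact fun v => Iff.trans (Subtype.ext_iff)
      (SetLike.ext_iff.1 (H17.KoszTwist.range_stalk_kernelι (R b U a) x) v).symm

end construction

section generic

attribute [local instance] Curv2.stalkAlgebra

theorem algebraMap_eq_sk (x : X) : algebraMap k (X.presheaf.stalk x) = sk x := by
  refine RingHom.ext fun r => ?_
  show _ = X.presheaf.germ ⊤ x trivial (X.presheaf.map (homOfLE le_top).op (LeadFF.glob _ r))
  rw [X.presheaf.germ_res_apply]
  rfl

variable [IsIntegral X] [IsLocallyNoetherian X] {B : Type u} [Ring B] [Algebra k B] (b : Module.Basis (Fin d) k B)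
  (U : X.Opens) (a : Fin d → Γ(X, U))

theorem one'_germ_ne_zero (hη : genericPoint X ∈ U) :
    (target U).presheaf.germ U (genericPoint X) hη (one' U) ≠ 0 := fun h => by
  rw [← map_zero ((target U).presheaf.germ U (genericPoint X) hη).hom] at h
  obtain ⟨W, hW, i₁, i₂, e⟩ := TopCat.Presheaf.germ_eq (target U).presheaf (genericPoint X) hη hη _ _ h
  rw [map_zero] at e
  haveI : Nontrivial Γ((U : Scheme.{u}), U.ι ⁻¹ᵁ W) := by
    exact @Scheme.component_nontrivial _ _ ⟨⟨⟨genericPoint X, hη⟩, hW⟩⟩
  exact one_ne_zero (α := Γ((U : Scheme.{u}), U.ι ⁻¹ᵁ W))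
    (((map_one ((U : Scheme.{u}).presheaf.map ((Opens.map U.ι.base).op.map i₁.op)).hom).symm).trans e)

theorem stalk_homOfGlobal (x : X) (hx : x ∈ U) (r : Γ(X, U)) (c : X.presheaf.stalk x) :
    H06Mod.stalkLin (H11Tilde.homOfGlobal (target U) (sect U r)) x (c • H29Ref.oneStalk x) =
      (c * X.presheaf.germ U x hx r) • (target U).presheaf.germ U x hx (one' U) := by
  rw [map_smul, mul_smul]
  congr 1
  rw [H29Ref.oneStalk, H06Mod.stalkLin_germ]
  have h : (H11Tilde.homOfGlobal (target U) (sect U r)).app ⊤ (1 : Γ(X, ⊤)) = sect U r :=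
    H11Ample.val_homOfGlobal (L := target U) (sect U r)
  refine (congrArg _ h).trans ?_
  rw [← (target U).presheaf.germ_res_apply (homOfLE (le_top : U ≤ ⊤)) x hx, sect_res, Mero.germ_smul]

/-- The element of the generic fibre. -/
def genElem (hη : genericPoint X ∈ U) : X.functionField ⊗[k] B :=
  ∑ p, X.presheaf.germ U _ hη (a p) ⊗ₜ[k] b p

theorem coord_R (hη : genericPoint X ∈ U) (v : (Pw (Coh.structureModule X) d).presheaf.stalk (genericPoint X))
    (w : Fin d → X.functionField) (hw : ∀ j, coord (Coh.structureModule X) d _ v j = w j • H29Ref.oneStalk _)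
    (i : Fin d) :
    coord (target U) d _ (H06Mod.stalkLin (R b U a) _ v) i =
      ((Algebra.TensorProduct.basis X.functionField b).repr
        ((∑ j, w j • ((1 : X.functionField) ⊗ₜ[k] b j)) * genElem b U a hη) i) •
        (target U).presheaf.germ U (genericPoint X) hη (one' U) := by
  have h1 : coord (target U) d _ (H06Mod.stalkLin (R b U a) _ v) i = ∑ p, ∑ j,
      (sk (genericPoint X) (LinearMap.toMatrix b b (LinearMap.mulRight k (b p)) i j) *
        (w j * X.presheaf.germ U _ hη (a p))) • (target U).presheaf.germ U (genericPoint X) hη (one' U) := by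
    rw [R, stalkLin_finset_sum, LinearMap.sum_apply, map_sum, Finset.sum_apply]
    refine Finset.sum_congr rfl fun p _ => ?_
    rw [stalkLin_comp'', coord_diag, coord_matAct, map_sum]
    exact Finset.sum_congr rfl fun j _ => by
      rw [hw, map_smul, stalk_homOfGlobal U _ hη]
      exact smul_smul _ _ _
  have h2 : (Algebra.TensorProduct.basis X.functionField b).repr
      ((∑ j, w j • ((1 : X.functionField) ⊗ₜ[k] b j)) * genElem b U a hη) i = ∑ p, ∑ j,
      sk (genericPoint X) (LinearMap.toMatrix b b (LinearMap.mulRight k (b p)) i j) *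
        (w j * X.presheaf.germ U _ hη (a p)) := by
    rw [genElem, Finset.mul_sum, map_sum, Finsupp.finset_sum_apply]
    refine Finset.sum_congr rfl fun p _ => ?_
    rw [Finset.sum_mul, map_sum, Finsupp.finset_sum_apply]
    refine Finset.sum_congr rfl fun j _ => ?_
    rw [TensorProduct.smul_tmul', Algebra.TensorProduct.tmul_mul_tmul, smul_eq_mul, mul_one,
      Algebra.TensorProduct.basis_repr_tmul, ← algebraMap_eq_sk, LinearMap.toMatrix_apply,
      LinearMap.mulRight_apply]
    simp only [Finsupp.coe_smul, Pi.smul_apply, smul_eq_mul, Finsupp.mapRange_apply]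
    exact mul_comm _ _
  rw [h1, h2, Finset.sum_smul]
  exact Finset.sum_congr rfl fun p _ => (Finset.sum_smul).symm

theorem stalkFree_ker (hU : IsAffineOpen U) (hη : genericPoint X ∈ U) {m : ℕ}
    (hm : Module.finrank X.functionField (LinearMap.ker (LinearMap.mulRight X.functionField (genElem b U a hη))) = m) :
    StalkFree (Ker b U a) m (genericPoint X) := by
  let η := genericPoint X
  let g := (target U).presheaf.germ U η hη (one' U)
  have hne : Nonempty U := ⟨⟨η, hη⟩⟩
  let O := X.presheaf.stalk η
  let K := X.functionField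
  let Bb := Algebra.TensorProduct.basis K b
  let φ : (Pw (Coh.structureModule X) d).presheaf.stalk η ≃ₗ[O] (Fin d → O) :=
    (coord (Coh.structureModule X) d η).trans (LinearEquiv.piCongrRight fun _ => (H29Ref.unitEquiv η).symm)
  let ψ : (Pw (Coh.structureModule X) d).presheaf.stalk η ≃ₗ[O] K ⊗[k] B := φ.trans Bb.equivFun.symm
  haveI := isTorsionFree_target U hne η
  have hkey : ∀ v, H06Mod.stalkLin (R b U a) η v = 0 ↔
      ψ v ∈ LinearMap.ker (LinearMap.mulRight K (genElem b U a hη)) := fun v => by
    have hψ : ψ v = ∑ j, φ v j • ((1 : K) ⊗ₜ[k] b j) := by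
      refine (Bb.equivFun_symm_apply (φ v)).trans (Finset.sum_congr rfl fun j _ => ?_)
      rw [Algebra.TensorProduct.basis_apply]
    have hw : ∀ j, coord (Coh.structureModule X) d η v j = φ v j • H29Ref.oneStalk η := fun j =>
      ((H29Ref.unitEquiv η).apply_symm_apply _).symm
    rw [LinearMap.mem_ker, LinearMap.mulRight_apply, hψ, ← (coord (target U) d η).map_eq_zero_iff, funext_iff,
      ← Bb.repr.map_eq_zero_iff, Finsupp.ext_iff]
    refine forall_congr' fun i => ?_
    rw [coord_R b U a hη v (φ v) hw i, Pi.zero_apply, Finsupp.zero_apply, smul_eq_zero]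
    exact or_iff_left (one'_germ_ne_zero U hη)
  let ι₀ := H06Mod.stalkLin (kernel.ι (R b U a)) η
  have hr : LinearMap.range ι₀ = (LinearMap.ker (LinearMap.mulRight K (genElem b U a hη))).comap ψ.toLinearMap := by
    ext v
    rw [H17.KoszTwist.range_stalk_kernelι, LinearMap.mem_ker, hkey]
    rfl
  let E : (Ker b U a).presheaf.stalk η ≃ₗ[K] LinearMap.ker (LinearMap.mulRight K (genElem b U a hη)) :=
    (LinearEquiv.ofInjective ι₀ (H17.KoszTwist.stalk_injective_of_mono _ η)).trans
      ((LinearEquiv.ofEq _ _ hr).trans (ψ.ofSubmodule' _))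
  haveI : Module.Finite K (K ⊗[k] B) := Module.Finite.of_basis Bb
  exact ⟨(Module.finBasisOfFinrankEq K _ hm).map E.symm⟩

/-- An algebra split at the generic point acts on a reflexive coherent module of that rank. -/
theorem exists_module {m : ℕ} (hB : Module.finrank k B = m * m) (hm : 0 < m)
    (hs : Curves.Splits k B X.functionField) :
    ∃ F : X.Modules, Coh.IsCoh F ∧ (∀ x, Module.IsReflexive (X.presheaf.stalk x) (F.presheaf.stalk x)) ∧
      StalkFree F m (genericPoint X) ∧ (letI := H23KS.endAlgebra k F; Nonempty (B →ₐ[k] End F)) := by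
  haveI : Module.Finite k B := FiniteDimensional.of_finrank_pos (by rw [hB]; positivity)
  obtain ⟨m', -, ⟨e⟩⟩ := hs
  obtain rfl : m' = m := by
    have h := e.toLinearEquiv.finrank_eq
    rw [Module.finrank_baseChange, hB, Module.finrank_matrix, Module.finrank_self, Fintype.card_fin, mul_one] at h
    exact (Nat.mul_self_inj.1 h).symm
  let K := X.functionField
  haveI : NeZero m' := ⟨hm.ne'⟩
  let b := Module.finBasis k B
  let z : K ⊗[k] B := e.symm (1 - Matrix.single 0 0 1)
  let c := (Algebra.TensorProduct.basis K b).repr z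
  choose W hW r hr using fun p => TopCat.Presheaf.exists_germ_eq X.presheaf (x := genericPoint X) (c p)
  obtain ⟨U, hU, hηU, hUle⟩ := exists_isAffineOpen_mem_and_subset (x := genericPoint X)
    (U := (⟨⋂ p, (W p : Set X), isOpen_iInter_of_finite fun p => (W p).2⟩ : X.Opens)) (Set.mem_iInter.2 hW)
  let a := fun p => X.presheaf.map (homOfLE (fun y hy => Set.mem_iInter.1 (hUle hy) p : U ≤ W p)).op (r p)
  have hz : genElem b U a hηU = z := by
    rw [genElem]
    conv_rhs => rw [← (Algebra.TensorProduct.basis K b).sum_repr z]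
    refine Finset.sum_congr rfl fun p _ => ?_
    rw [show X.presheaf.germ U (genericPoint X) hηU (a p) = c p from
      (X.presheaf.germ_res_apply _ _ _ _).trans (hr p), Algebra.TensorProduct.basis_apply, TensorProduct.smul_tmul',
      smul_eq_mul, mul_one]
  refine ⟨Ker b U a, isCoh_ker b U a hU, isReflexiveAt_ker b U a ⟨⟨_, hηU⟩⟩,
    stalkFree_ker b U a hU hηU ?_, ⟨act b U a⟩⟩
  rw [hz]
  let E : LinearMap.ker (LinearMap.mulRight K z) ≃ₗ[K] (Fin m' → K) :=
    { toFun := fun x i => e x.1 i 0
      map_add' := fun x y => funext fun i => by simp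
      map_smul' := fun c x => funext fun i => by simp
      invFun := fun v => ⟨e.symm (Matrix.of fun i j => if j = 0 then v i else 0), by
        rw [LinearMap.mem_ker, LinearMap.mulRight_apply, show z = e.symm _ from rfl, ← map_mul]
        refine (congrArg e.symm (Matrix.ext fun i j => ?_)).trans (map_zero e.symm)
        rw [Matrix.mul_sub, mul_one, Matrix.sub_apply, Matrix.zero_apply]
        by_cases hj : j = 0
        · subst hj; simp
        · simp [hj, Matrix.mul_single_apply_of_ne]⟩
      left_inv := fun x => Subtype.ext (e.injective (by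
        rw [AlgEquiv.apply_symm_apply]
        have hx : e x.1 * (1 - Matrix.single 0 0 1) = 0 := by
          have := congrArg e (LinearMap.mem_ker.1 x.2)
          rwa [LinearMap.mulRight_apply, map_mul, AlgEquiv.apply_symm_apply, map_zero] at this
        rw [Matrix.mul_sub, mul_one, sub_eq_zero] at hx
        conv_rhs => rw [hx]
        refine Matrix.ext fun i j => ?_
        by_cases hj : j = 0
        · subst hj; simp
        · simp [hj, Matrix.mul_single_apply_of_ne]))
      right_inv := fun v => funext fun i => by simp }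
  rw [E.finrank_eq, Module.finrank_fin_fun]

end generic

end Groth.Agent.H23SB.RightKer
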