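import Groth.Agent.H23SB.PointSheaf
import Groth.Agent.H23Para.CounitDescent
import Groth.Agent.H8Props.FunDescent.GenericLimit
import Groth.Agent.H29Ref.Free
import Groth.Agent.H23KS.Isotypical
import Mathlib

/-!
# The tautological sheaf over a splitting field

Over a field `K` splitting `A` the tautological sheaf is the sum of `n` copies of an invertible sheaf, and its
sections are matrices whose rows lie in the line of the point.
-/

set_option autoImplicit false
set_option linter.style.haveILetI false
set_option linter.unusedSectionVars false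

universe u

open CategoryTheory CategoryTheory.Limits AlgebraicGeometry Opposite TopologicalSpace
open scoped TensorProduct

noncomputable section

namespace Groth.Agent.H23SB

open Groth.Agent Groth.Agent.H02CA.SB

attribute [local instance] alg Abelian.hasFiniteBiproducts

variable {k : Type u} [Field k] {A : Type u} [Ring A] [Algebra k A] [Module.Finite k A] {c : ℕ} {n : ℕ} [NeZero n] {X : Scheme.{u}}
  [X.Over (Spec (CommRingCat.of k))] {m : ℕ} (b : Module.Basis (Fin m) k A)
  (str : BrSev.SBStr k A c (X ↘ Spec (CommRingCat.of k)))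
  {K : Type u} [Field K] [Algebra k K] {X' : Scheme.{u}} [X'.Over (Spec (CommRingCat.of K))] {q : X' ⟶ X}
  (hsq : IsPullback q (X' ↘ Spec (CommRingCat.of K)) (X ↘ Spec (CommRingCat.of k))
    (Spec.map (CommRingCat.ofHom (algebraMap k K))))
  (e : K ⊗[k] A ≃ₐ[K] Matrix (Fin n) (Fin n) K)

/-- Morphisms out of a pullback agree when they agree on pulled back sections. -/
theorem hom_ext_pullSect {Z Z' : Scheme.{u}} (p : Z' ⟶ Z) {G : Z.Modules} {N : Z'.Modules}
    {φ ψ : (Scheme.Modules.pullback p).obj G ⟶ N}
    (h : ∀ (U : Z.Opens) (s : Γ(G, U)), φ.app (p ⁻¹ᵁ U) (OmegaSh.pullSect p G U s) =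
      ψ.app (p ⁻¹ᵁ U) (OmegaSh.pullSect p G U s)) : φ = ψ := by
  apply ((Scheme.Modules.pullbackPushforwardAdjunction p).homEquiv G N).injective
  rw [Adjunction.homEquiv_unit, Adjunction.homEquiv_unit]
  exact Scheme.Modules.hom_ext _ _ fun U => ConcreteCategory.hom_ext _ _ fun s => h U s

variable (k K) in
/-- The `k`-scalars on sections upstairs. -/
@[reducible] def alg' (W : X'.Opens) : Algebra k Γ(X', W) :=
  ((LeadFF.scal (X' ↘ Spec (CommRingCat.of K)) W).comp (algebraMap k K)).toAlgebra


variable (k) in
/-- The structure map of sections upstairs. -/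
def τW (W : X'.Opens) : letI := alg' k K W; K →ₐ[k] Γ(X', W) :=
  letI := alg' k K W
  { LeadFF.scal (X' ↘ Spec (CommRingCat.of K)) W with commutes' := fun _ => rfl }

include hsq in
/-- Pullback of functions as algebra maps. -/
def qAlg (U : X.Opens) : letI := alg' k K (q ⁻¹ᵁ U); Γ(X, U) →ₐ[k] Γ(X', q ⁻¹ᵁ U) :=
  letI := alg' k K (q ⁻¹ᵁ U)
  { (q.app U).hom with commutes' := fun a => LeadFF.app_scal hsq U a }

/-- The coordinate functionals upstairs. -/
def psiL (l : Fin m) : (Scheme.Modules.pullback q).obj (V b str) ⟶ Coh.structureModule X' :=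
  ((Scheme.Modules.pullbackPushforwardAdjunction q).homEquiv _ _).symm
    ((LeadQSub.spanι (gens b str) ≫ proj l) ≫ H23Para.unitHom q)

theorem psiL_pullSect (l : Fin m) (U : X.Opens) (v : Γ(V b str, U)) :
    (psiL b str (q := q) l).app (q ⁻¹ᵁ U) (OmegaSh.pullSect q (V b str) U v) = q.app U (coord U v.1 l) := by
  have h := ((Scheme.Modules.pullbackPushforwardAdjunction q).homEquiv _ _).apply_symm_apply
    ((LeadQSub.spanι (gens b str) ≫ proj l) ≫ H23Para.unitHom q)
  rw [Adjunction.homEquiv_unit] at h
  exact congr($(congr(Scheme.Modules.Hom.app $h U)) v)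

/-- The matrix entries upstairs. -/
def entry (i j : Fin n) : (Scheme.Modules.pullback q).obj (V b str) ⟶ Coh.structureModule X' :=
  ∑ l, psiL b str l ≫ Formal.smulMod K (Coh.structureModule X') (e (1 ⊗ₜ[k] b l) i j)

/-- The matrix of a section upstairs. -/
def matL (W : X'.Opens) :
    Γ((Scheme.Modules.pullback q).obj (V b str), W) →ₗ[Γ(X', W)] Matrix (Fin n) (Fin n) Γ(X', W) where
  toFun y := Matrix.of fun i j => (entry b str e i j).app W y
  map_add' y z := Matrix.ext fun i j => map_add ((entry b str e i j).app W).hom y z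
  map_smul' r y := Matrix.ext fun i j => Scheme.Modules.Hom.app_smul (entry b str e i j) r y

theorem matL_res {W W' : X'.Opens} (h : W' ≤ W) (y : Γ((Scheme.Modules.pullback q).obj (V b str), W)) :
    matL b str e W' (((Scheme.Modules.pullback q).obj (V b str)).presheaf.map (homOfLE h).op y) =
      (matL b str e W y).map (X'.presheaf.map (homOfLE h).op) :=
  Matrix.ext fun i j => H11Tilde.app_map_apply (entry b str e i j) h y

include hsq in
theorem matL_pullSect (U : X.Opens) (v : Γ(V b str, U)) :
    letI := alg' k K (q ⁻¹ᵁ U)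
    matL b str e (q ⁻¹ᵁ U) (OmegaSh.pullSect q (V b str) U v) =
      psiHom e (τW k (q ⁻¹ᵁ U)) (mapA A (qAlg hsq U) (ofF b U v.1)) := by
  letI := alg' k K (q ⁻¹ᵁ U)
  have h3 : ofF b U v.1 = ∑ l, coord U v.1 l • ((1 : Γ(X, U)) ⊗ₜ[k] b l) := by
    simp [ofF, Module.Basis.equivFun_symm_apply, Algebra.TensorProduct.basis_apply]
  rw [h3, map_sum, map_sum]
  ext i j
  rw [Matrix.sum_apply]
  show (entry b str e i j).app (q ⁻¹ᵁ U) _ = _
  rw [entry, app_sum]
  refine Finset.sum_congr rfl fun l _ => ?_
  rw [mapA_smul, map_smul, Algebra.TensorProduct.map_tmul, map_one, psiHom_tmul, one_smul, AlgHom.id_apply,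
    Matrix.smul_apply, Matrix.map_apply, smul_eq_mul, mul_comm]
  show LeadFF.scal (X' ↘ Spec (CommRingCat.of K)) (q ⁻¹ᵁ U) (e (1 ⊗ₜ[k] b l) i j) •
    ((psiL b str l).app (q ⁻¹ᵁ U) (OmegaSh.pullSect q (V b str) U v)) = _
  rw [psiL_pullSect]
  rfl

/-- The action upstairs. -/
def rho : letI := H23KS.endAlgebra K ((Scheme.Modules.pullback q).obj (V b str));
    A →+ End ((Scheme.Modules.pullback q).obj (V b str)) where
  toFun a := (Scheme.Modules.pullback q).map (act b str a)
  map_zero' := by
    have h : act b str 0 = 0 := (letI := H23KS.endAlgebra k (V b str); map_zero (actHom b str))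
    rw [h, Functor.map_zero]
  map_add' x y := by
    have h : act b str (x + y) = act b str x + act b str y :=
      (letI := H23KS.endAlgebra k (V b str); map_add (actHom b str) x y)
    rw [h, Functor.map_add]

include hsq in
theorem map_smulMod (r : k) (G : X.Modules) :
    (Scheme.Modules.pullback q).map (Formal.smulMod k G r) =
      Formal.smulMod K ((Scheme.Modules.pullback q).obj G) (algebraMap k K r) :=
  hom_ext_pullSect q fun U s => by
    rw [← H17.PullSect.pullSect_natural]
    show OmegaSh.pullSect q G U (LeadFF.scal (X ↘ Spec (CommRingCat.of k)) U r • s) =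
      LeadFF.scal (X' ↘ Spec (CommRingCat.of K)) (q ⁻¹ᵁ U) (algebraMap k K r) • OmegaSh.pullSect q G U s
    rw [OmegaSh.pullSect_smul, LeadFF.app_scal hsq U r]

include hsq in
/-- The `k`-algebra map to endomorphisms upstairs. -/
def rhoK : letI := H23KS.endAlgebra K ((Scheme.Modules.pullback q).obj (V b str));
    letI : Algebra k (End ((Scheme.Modules.pullback q).obj (V b str))) := Algebra.compHom _ (algebraMap k K)
    A →ₐ[k] End ((Scheme.Modules.pullback q).obj (V b str)) :=
  letI := H23KS.endAlgebra K ((Scheme.Modules.pullback q).obj (V b str))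
  letI : Algebra k (End ((Scheme.Modules.pullback q).obj (V b str))) := Algebra.compHom _ (algebraMap k K)
  { toFun := rho b str
    map_one' := by
      show (Scheme.Modules.pullback q).map (act b str 1) = 𝟙 _
      rw [show act b str 1 = 𝟙 _ from (letI := H23KS.endAlgebra k (V b str); map_one (actHom b str)),
        CategoryTheory.Functor.map_id]
    map_mul' := fun x y => by
      show (Scheme.Modules.pullback q).map (act b str (x * y)) = _ ≫ _
      rw [show act b str (x * y) = act b str y ≫ act b str x from
        (letI := H23KS.endAlgebra k (V b str); map_mul (actHom b str) x y), Functor.map_comp]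
      rfl
    map_zero' := map_zero _
    map_add' := map_add _
    commutes' := fun r => by
      show (Scheme.Modules.pullback q).map (act b str (algebraMap k A r)) = H23KS.endScalar K _ (algebraMap k K r)
      rw [show act b str (algebraMap k A r) = H23KS.endScalar k _ r from
        (letI := H23KS.endAlgebra k (V b str); (actHom b str).commutes r)]
      exact map_smulMod hsq r _ }

include hsq in
/-- The action of the split algebra. -/
def rhoM : letI := H23KS.endAlgebra K ((Scheme.Modules.pullback q).obj (V b str));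
    K ⊗[k] A →ₐ[K] End ((Scheme.Modules.pullback q).obj (V b str)) :=
  letI := H23KS.endAlgebra K ((Scheme.Modules.pullback q).obj (V b str))
  letI : Algebra k (End ((Scheme.Modules.pullback q).obj (V b str))) := Algebra.compHom _ (algebraMap k K)
  haveI : IsScalarTower k K (End ((Scheme.Modules.pullback q).obj (V b str))) := IsScalarTower.of_algebraMap_eq fun _ => rfl
  Algebra.TensorProduct.lift (Algebra.ofId K _) (rhoK b str hsq) fun r a => Algebra.commutes r _

include hsq in
/-- Entries of composites with the action. -/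
theorem entry_act (a : A) (i j : Fin n) :
    (Scheme.Modules.pullback q).map (act b str a) ≫ entry b str e i j =
      ∑ t, entry b str e t j ≫ Formal.smulMod K (Coh.structureModule X') (e (1 ⊗ₜ[k] a) i t) := by
  refine hom_ext_pullSect q fun U v => ?_
  letI := alg' k K (q ⁻¹ᵁ U)
  rw [app_sum]
  show (entry b str e i j).app (q ⁻¹ᵁ U)
      (((Scheme.Modules.pullback q).map (act b str a)).app (q ⁻¹ᵁ U) (OmegaSh.pullSect q (V b str) U v)) = _
  rw [← H17.PullSect.pullSect_natural]
  show matL b str e (q ⁻¹ᵁ U) (OmegaSh.pullSect q (V b str) U ((act b str a).app U v)) i j = _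
  have h : ((act b str a).app U v).1 = (lmul b a).app U v.1 :=
    congr($(congr(Scheme.Modules.Hom.app $(act_ι b str a) U)) v)
  rw [matL_pullSect b str hsq e, h, ofF_lmul, map_mul, map_mul, Algebra.TensorProduct.map_tmul, map_one, psiHom_tmul,
    one_smul, AlgHom.id_apply, Matrix.mul_apply, ← matL_pullSect b str hsq e]
  exact Finset.sum_congr rfl fun t _ => rfl

include hsq in
theorem matL_rhoM (z : K ⊗[k] A) (W : X'.Opens) (y : Γ((Scheme.Modules.pullback q).obj (V b str), W)) :
    letI := H23KS.endAlgebra K ((Scheme.Modules.pullback q).obj (V b str))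
    letI := alg' k K W
    matL b str e W (Scheme.Modules.Hom.app (rhoM b str hsq z) W y) =
      (e z).map (τW k W) * matL b str e W y := by
  letI := H23KS.endAlgebra K ((Scheme.Modules.pullback q).obj (V b str))
  letI := alg' k K W
  induction z using TensorProduct.induction_on with
  | zero =>
    rw [map_zero, map_zero]
    simp only [Matrix.map_zero _ (map_zero _), Matrix.zero_mul]
    exact map_zero (matL b str e W)
  | add z w hz hw =>
    rw [map_add, map_add, Matrix.map_add _ (map_add _), Matrix.add_mul, ← hz, ← hw]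
    exact map_add (matL b str e W) _ _
  | tmul r a =>
    have h1 : (rhoM b str hsq (r ⊗ₜ[k] a) :
        (Scheme.Modules.pullback q).obj (V b str) ⟶ (Scheme.Modules.pullback q).obj (V b str)) =
        (Scheme.Modules.pullback q).map (act b str a) ≫ Formal.smulMod K _ r := by
      letI : Algebra k (End ((Scheme.Modules.pullback q).obj (V b str))) := Algebra.compHom _ (algebraMap k K)
      haveI : IsScalarTower k K (End ((Scheme.Modules.pullback q).obj (V b str))) :=
        IsScalarTower.of_algebraMap_eq fun _ => rfl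
      refine (show rhoM b str hsq (r ⊗ₜ[k] a) = H23KS.endScalar K _ r * rhoK b str hsq a from
        Algebra.TensorProduct.lift_tmul _ _ _ _ _).trans ?_
      rfl
    rw [h1, show r ⊗ₜ[k] a = r • ((1 : K) ⊗ₜ[k] a) by simp [TensorProduct.smul_tmul'], map_smul]
    show matL b str e W (LeadFF.scal (X' ↘ Spec (CommRingCat.of K)) W r •
      ((Scheme.Modules.pullback q).map (act b str a)).app W y) = _
    rw [map_smul]
    ext i j
    rw [Matrix.smul_apply, Matrix.mul_apply]
    have h2 : ((Scheme.Modules.pullback q).map (act b str a) ≫ entry b str e i j).app W y =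
        ∑ t, (LeadFF.scal (X' ↘ Spec (CommRingCat.of K)) W (e (1 ⊗ₜ[k] a) i t) *
          matL b str e W y t j : Γ(X', W)) := by
      rw [entry_act b str hsq e, app_sum]
      rfl
    show LeadFF.scal (X' ↘ Spec (CommRingCat.of K)) W r *
      (show Γ(X', W) from ((Scheme.Modules.pullback q).map (act b str a) ≫ entry b str e i j).app W y) = _
    refine (congrArg (fun z : Γ(X', W) => LeadFF.scal (X' ↘ Spec (CommRingCat.of K)) W r * z) h2).trans
      ((Finset.mul_sum _ _ _).trans (Finset.sum_congr rfl fun t _ => ?_))
    rw [Matrix.map_apply, Matrix.smul_apply, smul_eq_mul, map_mul]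
    exact (mul_assoc _ _ _).symm

/-- An idempotent endomorphism splits. -/
theorem exists_split_idem {C : Type*} [Category C] [Abelian C] {M : C} (f : M ⟶ M) (h : f ≫ f = f) :
    ∃ (P : C) (ι : P ⟶ M) (p : M ⟶ P), ι ≫ p = 𝟙 P ∧ p ≫ ι = f := by
  refine ⟨image f, image.ι f, factorThruImage f, ?_, image.fac f⟩
  rw [← cancel_epi (factorThruImage f), ← cancel_mono (image.ι f)]
  simp only [Category.assoc, image.fac, Category.id_comp, Category.comp_id]
  simpa only [← Category.assoc, image.fac] using h

include hsq in
/-- The corner of the tautological sheaf upstairs. -/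
theorem exists_corner : ∃ (P : X'.Modules) (ι : P ⟶ (Scheme.Modules.pullback q).obj (V b str))
    (p : (Scheme.Modules.pullback q).obj (V b str) ⟶ P),
    ι ≫ p = 𝟙 P ∧
    (p ≫ ι = (letI := H23KS.endAlgebra K ((Scheme.Modules.pullback q).obj (V b str));
      rhoM b str hsq (e.symm (Matrix.single 0 0 1)))) ∧
    Nonempty ((Scheme.Modules.pullback q).obj (V b str) ≅ ∐ fun _ : Fin n => P) := by
  letI := H23KS.endAlgebra K ((Scheme.Modules.pullback q).obj (V b str))
  let E : Fin n → Fin n → ((Scheme.Modules.pullback q).obj (V b str) ⟶ (Scheme.Modules.pullback q).obj (V b str)) :=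
    fun i j => rhoM b str hsq (e.symm (Matrix.single i j 1))
  have hEE : ∀ i j l, E j l ≫ E i j = E i l := fun i j l => by
    show rhoM b str hsq _ * rhoM b str hsq _ = _
    rw [← map_mul, ← map_mul, Matrix.single_mul_single_same, one_mul]
  have hEne : ∀ i j j' l, j ≠ j' → E j' l ≫ E i j = 0 := fun i j j' l hj => by
    show rhoM b str hsq _ * rhoM b str hsq _ = 0
    rw [← map_mul, ← map_mul, Matrix.single_mul_single_of_ne (h := hj), map_zero, map_zero]
  have hsum : ∑ i, E i i = 𝟙 _ := by
    show ∑ i, rhoM b str hsq _ = 1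
    rw [← map_sum, ← map_sum, show ∑ i : Fin n, Matrix.single i i (1 : K) = 1 by
      ext a c; simp [Matrix.sum_apply, Matrix.single_apply, Matrix.one_apply, ite_and], map_one, map_one]
  obtain ⟨P, ι, p, hιp, hpι⟩ := exists_split_idem (E 0 0) (hEE 0 0 0)
  refine ⟨P, ι, p, hιp, hpι, ⟨?_ ≪≫ biproduct.isoCoproduct _⟩⟩
  refine
    { hom := biproduct.lift fun i => E 0 i ≫ p
      inv := biproduct.desc fun i => ι ≫ E i 0
      hom_inv_id := ?_
      inv_hom_id := biproduct.hom_ext' _ _ fun j => biproduct.hom_ext _ _ fun i => ?_ }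
  · rw [biproduct.lift_desc, ← hsum]
    refine Finset.sum_congr rfl fun i _ => ?_
    rw [Category.assoc, reassoc_of% hpι, hEE i 0 0, hEE]
  · simp only [biproduct.ι_desc_assoc, Category.assoc, biproduct.lift_π, Category.comp_id]
    rcases eq_or_ne i j with rfl | hij
    · rw [biproduct.ι_π_self, reassoc_of% hEE 0 i 0, ← hpι, Category.assoc, hιp, Category.comp_id, hιp]
    · rw [biproduct.ι_π_ne _ hij.symm, reassoc_of% hEne 0 i j 0 hij, zero_comp, comp_zero]

end Groth.Agent.H23SB
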